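import Cfsg.Agent.Lib.ThreeTransp.FischerRankThree
import Cfsg.Agent.Lib.ThreeTransp.FischerSpace
import Cfsg.Agent.Lib.ThreeTransp.LocalThree.Exchange

/-!
The singular lines of a class of 3-transpositions, and: when the neighbours of a member generate a
solvable group, no two lines through a member are joined by further commuting pairs.
-/

set_option autoImplicit false
set_option linter.unusedSectionVars false
set_option linter.style.haveILetI false

namespace CfsgLib.ThreeTransp.SolvLocal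

open Cfsg CfsgLib.Involutions CfsgLib.ThreeTransp
open scoped commutatorElement

universe u

variable {G : Type u} [Group G] {D : Set G}

/-- The members commuting with both of two members. -/
def perp2 (D : Set G) (x y : G) : Set G := {z | z ∈ D ∧ Commute z x ∧ Commute z y}

/-- The members of `perp2` commuting with all of it. -/
def line (D : Set G) (x y : G) : Set G := {z | z ∈ perp2 D x y ∧ ∀ w ∈ perp2 D x y, Commute z w}

/-- The hypotheses. -/
structure Hyp (D : Set G) : Prop where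
  cls : TClass D
  edge : ∀ x ∈ D, ∀ y ∈ nb D x, ∀ x' ∈ D, ∀ y' ∈ nb D x', SamePair x y x' y'
  nonedge : ∀ x ∈ D, ∀ y ∈ D, ¬ Commute x y → ∀ x' ∈ D, ∀ y' ∈ D, ¬ Commute x' y' → SamePair x y x' y'
  big : ∀ x ∈ D, ∀ y ∈ nb D x, ∃ z ∈ line D x y, z ≠ x ∧ z ≠ y
  pair : ∀ x ∈ D, ∀ y ∈ nb D x, ∃ u ∈ nb D x, ¬ Commute y u
  join : ∀ x ∈ D, ∀ y ∈ D, ¬ Commute x y → (both D x y).Nonempty
  sol : ∀ x ∈ D, Group.IsSolvable ↥(Subgroup.closure (nb D x))
  edges : ∀ x ∈ D, (nb D x).Nonempty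
  prim : IsPrimitiveUnderConj D
  centre : Subgroup.center G = ⊥

theorem line_comm (x y : G) : line D x y = line D y x := by
  have h : perp2 D x y = perp2 D y x := by
    ext z; exact ⟨fun h => ⟨h.1, h.2.2, h.2.1⟩, fun h => ⟨h.1, h.2.2, h.2.1⟩⟩
  simp only [line, h]

theorem left_mem_perp2 {x y : G} (hx : x ∈ D) (hy : y ∈ nb D x) : x ∈ perp2 D x y :=
  ⟨hx, Commute.refl x, hy.2.2⟩

theorem left_mem_line {x y : G} (hx : x ∈ D) (hy : y ∈ nb D x) : x ∈ line D x y :=
  ⟨left_mem_perp2 hx hy, fun _ hw => hw.2.1.symm⟩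

theorem right_mem_line {x y : G} (hy : y ∈ nb D x) : y ∈ line D x y :=
  ⟨⟨hy.1, hy.2.2.symm, Commute.refl y⟩, fun _ hw => hw.2.2.symm⟩

theorem line_clique {x y a b : G} (ha : a ∈ line D x y) (hb : b ∈ line D x y) : Commute a b :=
  ha.2 b hb.1

theorem line_subset {x y : G} : line D x y ⊆ D := fun _ h => h.1.1

variable (hH : Hyp D)
include hH

omit hH in
theorem nb_symm' {x y : G} (hx : x ∈ D) (hy : y ∈ nb D x) : x ∈ nb D y :=
  ⟨hx, hy.2.1.symm, hy.2.2.symm⟩

theorem perp2_ncard {x y x' y' : G} (hx : x ∈ D) (hy : y ∈ nb D x) (hx' : x' ∈ D) (hy' : y' ∈ nb D x') :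
    (perp2 D x' y').ncard = (perp2 D x y).ncard := by
  obtain ⟨g, rfl, rfl⟩ := hH.edge x hx y hy x' hx' y' hy'
  rw [← Set.ncard_image_of_injective (perp2 D x y) (f := fun v => g * v * g⁻¹)
    (fun a b e => mul_left_cancel (mul_right_cancel e))]
  congr 1
  ext v
  constructor
  · intro hv
    have e : v = g * (g⁻¹ * v * g) * g⁻¹ := by group
    rw [e] at hv
    have h1 : g⁻¹ * v * g ∈ perp2 D x y := by
      refine ⟨?_, (commute_conj_iff g).1 hv.2.1, (commute_conj_iff g).1 hv.2.2⟩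
      simpa [mul_assoc] using hH.cls.conj g⁻¹ _ hv.1
    exact ⟨_, h1, e.symm⟩
  · rintro ⟨w, hw, rfl⟩
    exact ⟨hH.cls.conj g w hw.1, (commute_conj_iff g).2 hw.2.1, (commute_conj_iff g).2 hw.2.2⟩

/-- Two members of a line determine it. -/
theorem line_eq [Finite G] {x y a b : G} (hx : x ∈ D) (hy : y ∈ nb D x) (ha : a ∈ line D x y)
    (hb : b ∈ line D x y) (hab : a ≠ b) :
    perp2 D a b = perp2 D x y ∧ line D a b = line D x y := by
  have hba : b ∈ nb D a := ⟨line_subset hb, fun e => hab e.symm, line_clique ha hb⟩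
  have h : perp2 D a b = perp2 D x y :=
    (Set.eq_of_subset_of_ncard_le
      (show perp2 D x y ⊆ perp2 D a b from fun w hw => ⟨hw.1, (ha.2 w hw).symm, (hb.2 w hw).symm⟩)
      (le_of_eq (perp2_ncard hH hx hy (line_subset ha) hba)) (Set.toFinite _)).symm
  exact ⟨h, by simp only [line, h]⟩

theorem third [Finite G] {x y : G} (hx : x ∈ D) (hy : y ∈ nb D x) :
    ∃ z ∈ line D x y, z ≠ x ∧ z ≠ y ∧ z ∈ nb D x ∧ perp2 D y z = perp2 D x y := by
  obtain ⟨z, hz, h1, h2⟩ := hH.big x hx y hy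
  exact ⟨z, hz, h1, h2, ⟨line_subset hz, h1, line_clique (left_mem_line hx hy) hz⟩,
    (line_eq hH hx hy (right_mem_line hy) hz h2.symm).1⟩

/-- For one pair the common perp is just the line. -/
theorem noPlane_one [Finite G] {x : G} (hx : x ∈ D) :
    ∃ y ∈ nb D x, ∀ m ∈ perp2 D x y, m ∈ line D x y := by
  classical
  have hT := hH.cls.ts
  set E := nb D x with hE
  set H := Subgroup.closure E with hHdef
  haveI : Group.IsSolvable ↥H := hH.sol x hx
  have hfix : ∀ h : ↥H, (h : G) * x * (h : G)⁻¹ = x := fun h => by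
    rw [(commute_closure_nb h.2).eq, mul_inv_cancel_right]
  have hEconj : ∀ (h : ↥H), ∀ y ∈ E, (h : G) * y * (h : G)⁻¹ ∈ E := by
    intro h y hy
    refine ⟨hH.cls.conj _ _ hy.1, fun e => hy.2.1 ?_, ?_⟩
    · exact mul_left_cancel (mul_right_cancel (e.trans (hfix h).symm))
    · have h1 := (commute_conj_iff (x := x) (y := y) (h : G)).2 hy.2.2
      rwa [hfix h] at h1
  have hLconj : ∀ (h : ↥H) (y z : G), z ∈ line D x y →
      (h : G) * z * (h : G)⁻¹ ∈ line D x ((h : G) * y * (h : G)⁻¹) := by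
    intro h y z hz
    refine ⟨⟨hH.cls.conj _ _ hz.1.1, ?_, (commute_conj_iff (h : G)).2 hz.1.2.2⟩, fun w hw => ?_⟩
    · have h1 := (commute_conj_iff (x := z) (y := x) (h : G)).2 hz.1.2.1
      rwa [hfix h] at h1
    · have hw' : w = (h : G) * ((h : G)⁻¹ * w * (h : G)) * (h : G)⁻¹ := by group
      rw [hw']
      refine (commute_conj_iff (h : G)).2 (hz.2 _ ⟨by simpa using hH.cls.conj (h : G)⁻¹ w hw.1, ?_, ?_⟩)
      · refine (commute_conj_iff (h : G)).1 ?_
        rw [← hw', hfix h]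
        exact hw.2.1
      · refine (commute_conj_iff (h : G)).1 ?_
        rw [← hw']
        exact hw.2.2
  -- the elements fixing every line at `x`
  let K : Subgroup ↥H :=
    { carrier := {h | ∀ y ∈ E, (h : G) * y * (h : G)⁻¹ ∈ line D x y}
      one_mem' := fun y hy => by simpa using right_mem_line hy
      mul_mem' := fun {g g'} hg hg' y hy => by
        have h1 := hLconj g y _ (hg' y hy)
        have hy2 := hg y hy
        have hey := (line_eq hH hx hy (left_mem_line hx hy) hy2 (fun e => (hEconj g y hy).2.1 e.symm)).2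
        rw [hey] at h1
        push_cast
        rw [show (g : G) * g' * y * ((g : G) * g')⁻¹ = (g : G) * ((g' : G) * y * (g' : G)⁻¹) * (g : G)⁻¹ by group]
        exact h1
      inv_mem' := fun {g} hg y hy => by
        have hy' := hEconj g⁻¹ y hy
        have h1 := hg _ hy'
        rw [show (g : G) * (((g⁻¹ : ↥H) : G) * y * ((g⁻¹ : ↥H) : G)⁻¹) * (g : G)⁻¹ = y by push_cast; group] at h1
        rw [(line_eq hH hx hy' (left_mem_line hx hy') h1 fun e => hy.2.1 e.symm).2]
        exact right_mem_line hy' }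
  haveI hKn : K.Normal := ⟨fun k hk h y hy => by
    have h1 := hLconj h _ _ (hk _ (hEconj h⁻¹ y hy))
    rw [show (h : G) * (((h⁻¹ : ↥H) : G) * y * ((h⁻¹ : ↥H) : G)⁻¹) * (h : G)⁻¹ = y by push_cast; group] at h1
    convert h1 using 1
    push_cast
    group⟩
  let el : ∀ y, y ∈ E → ↥H := fun y hy => ⟨y, Subgroup.subset_closure hy⟩
  -- non-commuting members are never congruent
  have hL1 : ∀ w (hw : w ∈ E) z (hz : z ∈ E), ¬ Commute w z → el w hw * el z hz ∉ K := by
    intro w hw z hz hn hk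
    have h1 := hk z hz
    simp only [el, Subgroup.coe_mul] at h1
    rw [mul_inv_rev, ts_inv hT hw.1, ts_inv hT hz.1] at h1
    rw [show w * z * z * (z * w) = w * z * w by
      rw [mul_assoc (w * z) z, ← mul_assoc z z, ts_mul_self hT hz.1, one_mul]] at h1
    exact (ts_third_not_commute hT hz.1 hw.1 fun h => hn h.symm).1 (line_clique (right_mem_line hz) h1)
  have hne : K ≠ ⊤ := by
    intro hK
    obtain ⟨y, hy⟩ := hH.edges x hx
    obtain ⟨u, hu, hn⟩ := hH.pair x hx y hy
    exact hL1 y hy u hu hn (hK ▸ Subgroup.mem_top _)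
  haveI : Group.IsSolvable (↥H ⧸ K) := Group.isSolvable_of_surjective (QuotientGroup.mk'_surjective K)
  obtain ⟨N0, hN0n, hN0ne, hN0c⟩ : ∃ N0 : Subgroup (↥H ⧸ K), N0.Normal ∧ N0 ≠ ⊥ ∧
      ∀ a ∈ N0, ∀ b ∈ N0, a * b = b * a := by
    haveI : Nontrivial (↥H ⧸ K) := QuotientGroup.nontrivial_iff.2 hne
    have hex : ∃ n, derivedSeries (↥H ⧸ K) n = ⊥ := (Group.isSolvable_def _).1 inferInstance
    obtain ⟨m, hm⟩ : ∃ m, Nat.find hex = m + 1 := by
      refine Nat.exists_eq_succ_of_ne_zero fun h0 => ?_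
      have := Nat.find_spec hex
      rw [h0, derivedSeries_zero] at this
      exact top_ne_bot this
    refine ⟨derivedSeries (↥H ⧸ K) m, derivedSeries_normal _ m, Nat.find_min hex (by omega), fun a ha b hb => ?_⟩
    have h1 : ⁅a, b⁆ ∈ derivedSeries (↥H ⧸ K) (m + 1) := by
      rw [derivedSeries_succ]; exact Subgroup.commutator_mem_commutator ha hb
    rw [← hm, Nat.find_spec hex, Subgroup.mem_bot] at h1
    exact commutatorElement_eq_one_iff_mul_comm.1 h1
  let N := N0.comap (QuotientGroup.mk' K)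
  haveI : N.Normal := hN0n.comap _
  have hKN : K ≤ N := fun k hk => by
    show (k : ↥H ⧸ K) ∈ N0
    rw [(QuotientGroup.eq_one_iff k).2 hk]; exact one_mem _
  -- the order two and three argument
  have hsix : ∀ w (hw : w ∈ E) y (hy : y ∈ E) z (hz : z ∈ E), Commute w y → ¬ Commute w z →
      el y hy * el z hz ∈ N → el w hw * el z hz ∈ N := by
    intro w hw y hy z hz hwy hwz hyz
    rw [← QuotientGroup.eq_one_iff]
    set W : ↥H ⧸ N := (el w hw : ↥H ⧸ N)
    set Y : ↥H ⧸ N := (el y hy : ↥H ⧸ N)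
    set Z : ↥H ⧸ N := (el z hz : ↥H ⧸ N)
    have hY2 : Y * Y = 1 := by
      show ((el y hy * el y hy : ↥H) : ↥H ⧸ N) = 1
      rw [show el y hy * el y hy = 1 from Subtype.ext (ts_mul_self hT hy.1)]; rfl
    have hYZ : Y * Z = 1 := (QuotientGroup.eq_one_iff _).2 hyz
    have hZY : Z = Y := by
      calc Z = Y * Y * Z := by rw [hY2, one_mul]
        _ = Y := by rw [mul_assoc, hYZ, mul_one]
    have e3 : (W * Z) ^ 3 = 1 := by
      show (((el w hw * el z hz) ^ 3 : ↥H) : ↥H ⧸ N) = 1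
      rw [show (el w hw * el z hz) ^ 3 = 1 from Subtype.ext (by simpa [el] using ts_cube hT hw.1 hz.1 hwz)]; rfl
    have e2 : (W * Z) ^ 2 = 1 := by
      rw [hZY]
      show (((el w hw * el y hy) ^ 2 : ↥H) : ↥H ⧸ N) = 1
      rw [show (el w hw * el y hy) ^ 2 = 1 from Subtype.ext (by
        simpa [el] using (invol_commute_iff (ts_invol hT hw.1) (ts_invol hT hy.1)).1 hwy)]; rfl
    show W * Z = 1
    calc W * Z = (W * Z) ^ 3 := by rw [pow_succ, e2, one_mul]
      _ = 1 := e3
  -- commuting congruent members share a line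
  have hL2 : ∀ y (hy : y ∈ E) z (hz : z ∈ E), Commute y z → el y hy * el z hz ∈ N → z ∈ line D x y := by
    intro y hy z hz hyz hN
    refine ⟨⟨hz.1, hz.2.2.symm, hyz.symm⟩, fun w hw => ?_⟩
    by_contra hn
    have hwE : w ∈ E := ⟨hw.1, fun e => hn (e ▸ hz.2.2.symm), hw.2.1.symm⟩
    have hwz : ¬ Commute w z := fun h => hn h.symm
    have hWZ := hsix w hwE y hy z hz hw.2.2 hwz hN
    set A : ↥H ⧸ K := ((el w hwE * el z hz : ↥H) : ↥H ⧸ K)
    set B : ↥H ⧸ K := ((el y hy * el z hz : ↥H) : ↥H ⧸ K)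
    have hB2 : B ^ 2 = 1 := by
      show (((el y hy * el z hz) ^ 2 : ↥H) : ↥H ⧸ K) = 1
      rw [show (el y hy * el z hz) ^ 2 = 1 from Subtype.ext (by
        simpa [el] using (invol_commute_iff (ts_invol hT hy.1) (ts_invol hT hz.1)).1 hyz)]; rfl
    have hA3 : A ^ 3 = 1 := by
      show (((el w hwE * el z hz) ^ 3 : ↥H) : ↥H ⧸ K) = 1
      rw [show (el w hwE * el z hz) ^ 3 = 1 from Subtype.ext (by simpa [el] using ts_cube hT hw.1 hz.1 hwz)]; rfl
    have hAB : A * B = ((el w hwE * el y hy : ↥H) : ↥H ⧸ K) := by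
      show (((el w hwE * el z hz) * (el y hy * el z hz) : ↥H) : ↥H ⧸ K) = _
      congr 1
      refine Subtype.ext ?_
      simp only [el, Subgroup.coe_mul]
      rw [hyz.eq, mul_assoc w z, ← mul_assoc z z, ts_mul_self hT hz.1, one_mul]
    have hAB2 : (A * B) ^ 2 = 1 := by
      rw [hAB]
      show (((el w hwE * el y hy) ^ 2 : ↥H) : ↥H ⧸ K) = 1
      rw [show (el w hwE * el y hy) ^ 2 = 1 from Subtype.ext (by
        simpa [el] using (invol_commute_iff (ts_invol hT hw.1) (ts_invol hT hy.1)).1 hw.2.2)]; rfl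
    rw [(show Commute A B from hN0c A hWZ B hN).mul_pow, hB2, mul_one] at hAB2
    refine hL1 w hwE z hz hwz ((QuotientGroup.eq_one_iff _).1 ?_)
    calc A = A ^ 3 := by rw [pow_succ, hAB2, one_mul]
      _ = 1 := hA3
  -- a congruent non-commuting pair
  obtain ⟨n, hnN, hnK⟩ : ∃ n ∈ N, n ∉ K := by
    by_contra h
    push Not at h
    exact hN0ne (Subgroup.eq_bot_iff_forall _ |>.2 fun a ha => by
      obtain ⟨b, rfl⟩ := QuotientGroup.mk_surjective a
      exact (QuotientGroup.eq_one_iff b).2 (h b ha))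
  obtain ⟨y, hy, hmove⟩ : ∃ y ∈ E, (n : G) * y * (n : G)⁻¹ ∉ line D x y := by
    by_contra h
    push Not at h
    exact hnK h
  set u := (n : G) * y * (n : G)⁻¹ with hu
  have huE : u ∈ E := hEconj n y hy
  have hyu : el y hy * el u huE ∈ N := by
    rw [show el y hy * el u huE = el y hy * n * (el y hy)⁻¹ * n⁻¹ from Subtype.ext (by
      simp only [el, Subgroup.coe_mul, Subgroup.coe_inv, hu, ts_inv hT hy.1, mul_assoc])]
    exact mul_mem ((inferInstance : N.Normal).conj_mem n hnN _) (inv_mem hnN)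
  have hnc : ¬ Commute y u := fun h => hmove (hL2 y hy u huE h hyu)
  refine ⟨y, hy, fun m hm => ?_⟩
  by_contra hmL
  -- the members off the line commute with `u`
  have hL3 : ∀ w ∈ perp2 D x y, w ∉ line D x y → Commute w u := by
    intro w hw hwL
    by_contra hn
    have hwE : w ∈ E := ⟨hw.1, fun e => hwL (by rw [e]; exact left_mem_line hx hy), hw.2.1.symm⟩
    have h1 := hsix w hwE y hy u huE hw.2.2 hn hyu
    have h2 : el y hy * el w hwE ∈ N := by
      have h3 := mul_mem hyu (inv_mem h1)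
      rwa [show el y hy * el u huE * (el w hwE * el u huE)⁻¹ = el y hy * el w hwE from Subtype.ext (by
        simp only [el, Subgroup.coe_mul, Subgroup.coe_inv, mul_inv_rev, ts_inv hT hw.1, ts_inv hT huE.1]
        rw [mul_assoc y u, ← mul_assoc u u, ts_mul_self hT huE.1, one_mul])] at h3
    exact hwL (hL2 y hy w hwE hw.2.2.symm h2)
  have hmE : m ∈ nb D y := ⟨hm.1, fun e => hmL (by rw [e]; exact right_mem_line hy), hm.2.2.symm⟩
  obtain ⟨m', hm'L, hm'y, hm'm, hm'nb, hper⟩ := third hH hy.1 hmE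
  have hxper : x ∈ perp2 D y m := ⟨hx, hy.2.2, hm.2.1.symm⟩
  have hm'x : Commute m' x := hm'L.2 x hxper
  have hm'n : m' ∉ line D x y := by
    intro h
    have e1 := (line_eq hH hx hy (right_mem_line hy) h hm'y.symm).2
    have e2 := (line_eq hH hy.1 hmE (left_mem_line hy.1 hmE) hm'L hm'y.symm).2
    exact hmL (e1 ▸ e2.symm ▸ right_mem_line hmE)
  have h1 := hL3 m hm hmL
  have h2 := hL3 m' ⟨hm'nb.1, hm'x, hm'nb.2.2.symm⟩ hm'n
  have h3 : u ∈ perp2 D m m' := ⟨huE.1, h1.symm, h2.symm⟩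
  rw [hper] at h3
  exact hnc h3.2.1.symm

/-- Lines are the common perps. -/
theorem perp2_eq_line [Finite G] {x y : G} (hx : x ∈ D) (hy : y ∈ nb D x) : perp2 D x y = line D x y := by
  obtain ⟨y₀, hy₀, h0⟩ := noPlane_one hH hx
  obtain ⟨g, hgx, rfl⟩ := hH.edge x hx y₀ hy₀ x hx y hy
  refine Set.Subset.antisymm (fun w hw => ⟨hw, fun v hv => ?_⟩) fun w h => h.1
  have hpull : ∀ p ∈ perp2 D x (g * y₀ * g⁻¹), g⁻¹ * p * g ∈ line D x y₀ := by
    intro p hp
    have e : p = g * (g⁻¹ * p * g) * g⁻¹ := by group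
    refine h0 _ ⟨by simpa using hH.cls.conj g⁻¹ p hp.1, (commute_conj_iff g).1 ?_, (commute_conj_iff g).1 ?_⟩
    · rw [← e, hgx]; exact hp.2.1
    · rw [← e]; exact hp.2.2
  have h1 := line_clique (hpull w hw) (hpull v hv)
  have h2 := (commute_conj_iff g).2 h1
  rwa [show g * (g⁻¹ * w * g) * g⁻¹ = w by group, show g * (g⁻¹ * v * g) * g⁻¹ = v by group] at h2

/-- Three commuting members are on one line. -/
theorem tri [Finite G] {a b c : G} (ha : a ∈ D) (hb : b ∈ nb D a) (hc : c ∈ D) (hca : Commute c a)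
    (hcb : Commute c b) : c ∈ line D a b :=
  perp2_eq_line hH ha hb ▸ ⟨hc, hca, hcb⟩

/-- A member commuting with two members of a line lies on it. -/
theorem mem_of_two [Finite G] {x y a b v : G} (hx : x ∈ D) (hy : y ∈ nb D x) (ha : a ∈ line D x y)
    (hb : b ∈ line D x y) (hab : a ≠ b) (hv : v ∈ D) (hva : Commute v a) (hvb : Commute v b) :
    v ∈ line D x y := by
  rw [← perp2_eq_line hH hx hy, ← (line_eq hH hx hy ha hb hab).1]
  exact ⟨hv, hva, hvb⟩

end CfsgLib.ThreeTransp.SolvLocal
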