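import Cfsg.Agent.Lib.ThreeTransp.SolvLocal.Lines

/-!
A member off a singular line commutes with exactly one member of it.
-/

set_option autoImplicit false
set_option linter.unusedSectionVars false
set_option linter.style.haveILetI false

namespace CfsgLib.ThreeTransp.SolvLocal

open Cfsg CfsgLib.Involutions CfsgLib.ThreeTransp

universe u

variable {G : Type u} [Group G] {D : Set G}

/-- A permutation of order two without fixed members on a finite set: evenly many members. -/
theorem even_ncard_of_invol [Finite G] {S : Set G} (f : G → G) (h1 : ∀ v ∈ S, f v ∈ S) (h2 : ∀ v ∈ S, f (f v) = v)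
    (h3 : ∀ v ∈ S, f v ≠ v) : Even S.ncard := by
  classical
  haveI : Fintype G := Fintype.ofFinite G
  rw [Set.ncard_eq_toFinset_card']
  have h : (∑ _v ∈ S.toFinset, (1 : ZMod 2)) = 0 :=
    Finset.sum_involution (fun v _ => f v) (fun _ _ => by decide)
      (fun v hv _ => h3 v (Set.mem_toFinset.1 hv))
      (fun v hv => Set.mem_toFinset.2 (h1 v (Set.mem_toFinset.1 hv)))
      (fun v hv => h2 v (Set.mem_toFinset.1 hv))
  rw [Finset.sum_const, nsmul_one] at h
  exact ZMod.natCast_eq_zero_iff_even.1 h

variable (hH : Hyp D)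
include hH

/-- Moving by a commuting pair: the image commutes with the member and differs from it. -/
theorem pair_move {u z v : G} (hu : u ∈ D) (hz : z ∈ D) (hv : v ∈ D) (huz : Commute u z) (hne : u ≠ z)
    (hvu : ¬ Commute v u) (hvz : ¬ Commute v z) :
    u * z * v * (u * z)⁻¹ ∈ D ∧ Commute v (u * z * v * (u * z)⁻¹) ∧ u * z * v * (u * z)⁻¹ ≠ v := by
  have hT := hH.cls.ts
  have e : u * z * v * (u * z)⁻¹ = u * (z * v * z) * u := by
    rw [mul_inv_rev, ts_inv hT hu, ts_inv hT hz]; group
  refine ⟨hH.cls.conj _ _ hv, ?_, fun h => ?_⟩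
  · have h1 := LocalThree.conj_commute hT hu hz hv huz (fun h => hvu h.symm) fun h => hvz h.symm
    have h2 := (LocalThree.cnj_iff hT hu).2 h1
    rwa [LocalThree.cnj_twice hT hu, ← e] at h2
  · rw [e] at h
    have h1 : z * v * z = u * v * u := by
      rw [← LocalThree.cnj_twice hT hu (p := z * v * z), h]
    rw [ts_braid hT hz hv fun h => hvz h.symm, ts_braid hT hu hv fun h => hvu h.symm] at h1
    exact hne (mul_left_cancel (mul_right_cancel h1)).symm

theorem line_ncard [Finite G] {x y x' y' : G} (hx : x ∈ D) (hy : y ∈ nb D x) (hx' : x' ∈ D)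
    (hy' : y' ∈ nb D x') : (line D x' y').ncard = (line D x y).ncard := by
  rw [← perp2_eq_line hH hx hy, ← perp2_eq_line hH hx' hy', perp2_ncard hH hx hy hx' hy']

theorem line_pair [Finite G] {x y a b : G} (_hx : x ∈ D) (_hy : y ∈ nb D x) (ha : a ∈ line D x y)
    (hb : b ∈ line D x y) (hab : a ≠ b) : b ∈ nb D a :=
  ⟨line_subset hb, hab.symm, line_clique ha hb⟩

theorem line_three [Finite G] {x y : G} (hx : x ∈ D) (hy : y ∈ nb D x) : 3 ≤ (line D x y).ncard := by
  obtain ⟨z, hz, h1, h2⟩ := hH.big x hx y hy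
  have h : ({x, y, z} : Set G) ⊆ line D x y := by
    rintro v (rfl | rfl | rfl)
    exacts [left_mem_line hx hy, right_mem_line hy, hz]
  have h3 : ({x, y, z} : Set G).ncard = 3 := by
    rw [Set.ncard_eq_three]
    exact ⟨x, y, z, hy.2.1.symm, h1.symm, h2.symm, rfl⟩
  exact h3 ▸ Set.ncard_le_ncard h (Set.toFinite _)

/-- The members of a line other than one of its members are evenly many. -/
theorem line_odd [Finite G] {x y : G} (hx : x ∈ D) (hy : y ∈ nb D x) : Even ((line D x y).ncard - 1) := by
  have hT := hH.cls.ts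
  obtain ⟨u, hu, hyu⟩ := hH.pair x hx y hy
  obtain ⟨z, hz, hzx, hzu⟩ := hH.big x hx u hu
  have huz : Commute u z := line_clique (right_mem_line hu) hz
  rw [← Set.ncard_sdiff_singleton_of_mem (left_mem_line hx hy)]
  have hq : u * z * (u * z) = 1 := by
    rw [huz.eq, mul_assoc z u, ← huz.eq, ← mul_assoc u u, ts_mul_self hT hu.1, one_mul,
      ts_mul_self hT (line_subset hz)]
  have hqx : Commute (u * z) x := (hu.2.2.symm).mul_left (line_clique hz (left_mem_line hx hu))
  have hoff : ∀ v ∈ line D x y, v ≠ x → ¬ Commute v u ∧ ¬ Commute v z := by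
    intro v hv hvx
    have hne : ∀ w ∈ line D x u, w ≠ x → ¬ Commute v w := by
      intro w hw hwx hc
      have h1 := tri hH hx (line_pair hH hx hy (left_mem_line hx hy) hv hvx.symm) (line_subset hw)
        (line_clique hw (left_mem_line hx hu)) hc.symm
      rw [(line_eq hH hx hy (left_mem_line hx hy) hv hvx.symm).2] at h1
      have h2 := (line_eq hH hx hy (left_mem_line hx hy) h1 hwx.symm).2
      have h3 := (line_eq hH hx hu (left_mem_line hx hu) hw hwx.symm).2
      exact hyu (line_clique (right_mem_line hy) (h2 ▸ h3.symm ▸ right_mem_line hu))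
    exact ⟨hne u (right_mem_line hu) hu.2.1, hne z hz hzx⟩
  have hprop : ∀ v ∈ line D x y \ {x}, u * z * v * (u * z)⁻¹ ∈ line D x y \ {x} ∧ u * z * v * (u * z)⁻¹ ≠ v := by
    rintro v ⟨hv, hvx : v ≠ x⟩
    obtain ⟨h1, h2, h3⟩ := pair_move hH hu.1 (line_subset hz) (line_subset hv) huz hzu.symm
      (hoff v hv hvx).1 (hoff v hv hvx).2
    have h4 : Commute (u * z * v * (u * z)⁻¹) x := by
      have h5 := (commute_conj_iff (u * z)).2 (line_clique hv (left_mem_line hx hy))
      rwa [hqx.eq, mul_inv_cancel_right] at h5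
    refine ⟨⟨?_, fun e => hvx ?_⟩, h3⟩
    · exact mem_of_two hH hx hy (left_mem_line hx hy) hv hvx.symm h1 h4 h2.symm
    · rw [Set.mem_singleton_iff] at e
      exact mul_left_cancel (mul_right_cancel (e.trans (by rw [hqx.eq, mul_inv_cancel_right])))
  refine even_ncard_of_invol (fun v => u * z * v * (u * z)⁻¹) (fun v hv => (hprop v hv).1) (fun v _ => ?_)
    fun v hv => (hprop v hv).2
  show u * z * (u * z * v * (u * z)⁻¹) * (u * z)⁻¹ = v
  rw [show u * z * (u * z * v * (u * z)⁻¹) * (u * z)⁻¹ = u * z * (u * z) * v * (u * z * (u * z))⁻¹ by group,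
    hq, one_mul, inv_one, mul_one]

/-- Every member off a line commutes with some member of it. -/
theorem exists_meet [Finite G] {a b : G} (ha : a ∈ D) (hb : b ∈ nb D a) {v : G} (hv : v ∈ D) :
    ∃ c ∈ line D a b, Commute v c := by
  classical
  by_contra hanti
  push Not at hanti
  have hT := hH.cls.ts
  set L := line D a b with hL
  have haL : a ∈ L := left_mem_line ha hb
  have hbL : b ∈ L := right_mem_line hb
  have hcom : ∀ c ∈ L, ∀ d ∈ L, Commute c d := fun c hc d hd => line_clique hc hd
  let f : G → G → G := fun c d => c * d * v * (c * d)⁻¹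
  have hfs : ∀ c ∈ L, ∀ d ∈ L, f c d = f d c := fun c hc d hd => by
    show c * d * v * (c * d)⁻¹ = d * c * v * (d * c)⁻¹
    rw [(hcom c hc d hd).eq]
  have hmv : ∀ c ∈ L, ∀ d ∈ L, c ≠ d → f c d ∈ nb D v := fun c hc d hd hcd => by
    obtain ⟨h1, h2, h3⟩ := pair_move hH (line_subset hc) (line_subset hd) hv (hcom c hc d hd) hcd
      (hanti c hc) (hanti d hd)
    exact ⟨h1, h3, h2⟩
  have hff : ∀ c ∈ L, ∀ d ∈ L, ∀ e ∈ L, d ≠ e →
      Commute (f c d) (f c e) ∧ f c d ≠ f c e := by
    intro c hc d hd e he hde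
    have h1 := LocalThree.conj_commute hT (line_subset hd) (line_subset he) hv (hcom d hd e he)
      (fun h => hanti d hd h.symm) fun h => hanti e he h.symm
    have key : ∀ w ∈ L, f c w = c * (w * v * w) * c⁻¹ := fun w hw => by
      show c * w * v * (c * w)⁻¹ = _
      rw [mul_inv_rev, ts_inv hT (line_subset hw)]; group
    rw [key d hd, key e he]
    refine ⟨(commute_conj_iff c).2 h1, fun h => hde ?_⟩
    have h2 : d * v * d = e * v * e := mul_left_cancel (mul_right_cancel h)
    rw [ts_braid hT (line_subset hd) hv fun h => hanti d hd h.symm,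
      ts_braid hT (line_subset he) hv fun h => hanti e he h.symm] at h2
    exact mul_left_cancel (mul_right_cancel h2)
  set m₀ := f a b
  have hm₀ : m₀ ∈ nb D v := hmv a haL b hbL hb.2.1.symm
  set A := line D v m₀ with hA
  have hA1 : ∀ c ∈ L, c ≠ a → f a c ∈ A := by
    intro c hc hca
    by_cases hcb : c = b
    · subst hcb; exact right_mem_line hm₀
    · exact tri hH hv hm₀ (hmv a haL c hc hca.symm).1 (hmv a haL c hc hca.symm).2.2.symm
        (hff a haL b hbL c hc (fun e => hcb e.symm)).1.symm
  have hA2 : ∀ c ∈ L, ∀ d ∈ L, c ≠ d → f c d ∈ A := by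
    intro c hc d hd hcd
    by_cases hca : c = a
    · subst hca; exact hA1 d hd hcd.symm
    by_cases hda : d = a
    · subst hda; rw [hfs c hc d hd]; exact hA1 c hc hcd
    have h1 := hA1 c hc hca
    have hne : f a c ≠ v := (hmv a haL c hc fun e => hca e.symm).2.1
    refine mem_of_two hH hv hm₀ (left_mem_line hv hm₀) h1 hne.symm (hmv c hc d hd hcd).1
      (hmv c hc d hd hcd).2.2.symm ?_
    rw [hfs a haL c hc]
    exact (hff c hc d hd a haL hda).1
  let ι : G → G := fun c => if c = a then v else f a c
  have hιA : ι '' L = A := by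
    refine Set.eq_of_subset_of_ncard_le ?_ ?_ (Set.toFinite _)
    · rintro _ ⟨c, hc, rfl⟩
      by_cases hca : c = a
      · simp only [ι, if_pos hca]; exact left_mem_line hv hm₀
      · simp only [ι, if_neg hca]; exact hA1 c hc hca
    · refine le_of_eq ?_
      rw [Set.InjOn.ncard_image]
      · exact line_ncard hH ha hb hv hm₀
      · intro c hc d hd h
        by_cases hca : c = a <;> by_cases hda : d = a <;> simp only [ι, hca, hda, if_true, if_false] at h
        · exact hca.trans hda.symm
        · exact absurd h.symm (hmv a haL d hd fun e => hda e.symm).2.1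
        · exact absurd h (hmv a haL c hc fun e => hca e.symm).2.1
        · by_contra hcd
          exact (hff a haL c hc d hd hcd).2 h
  have hex : ∀ c ∈ L \ ({a, b} : Set G), ∃ e ∈ L \ ({a, b} : Set G), e ≠ c ∧ f b c = f a e := by
    rintro c ⟨hc, hc'⟩
    simp only [Set.mem_insert_iff, Set.mem_singleton_iff, not_or] at hc'
    have h1 := hA2 b hbL c hc fun e => hc'.2 e.symm
    rw [← hιA] at h1
    obtain ⟨e, he, hee⟩ := h1
    by_cases hea : e = a
    · simp only [ι, hea, if_true] at hee
      exact absurd hee.symm (hmv b hbL c hc fun e => hc'.2 e.symm).2.1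
    · simp only [ι, if_neg hea] at hee
      refine ⟨e, ⟨he, ?_⟩, fun hec => ?_, hee.symm⟩
      · simp only [Set.mem_insert_iff, Set.mem_singleton_iff, not_or]
        refine ⟨hea, fun heb => ?_⟩
        subst heb
        rw [hfs a haL e he] at hee
        exact (hff e he a haL c hc (fun h => hc'.1 h.symm)).2 hee
      · subst hec
        rw [hfs a haL e he, hfs b hbL e he] at hee
        exact (hff e he a haL b hbL hb.2.1.symm).2 hee
  choose g hg1 hg2 hg3 using hex
  let g' : G → G := fun c => if h : c ∈ L \ ({a, b} : Set G) then g c h else c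
  have hg' : ∀ c (h : c ∈ L \ ({a, b} : Set G)), g' c = g c h := fun c h => dif_pos h
  have heven : Even (L \ ({a, b} : Set G)).ncard := by
    refine even_ncard_of_invol g' (fun c h => (hg' c h).symm ▸ hg1 c h) (fun c h => ?_)
      fun c h => (hg' c h).symm ▸ hg2 c h
    rw [hg' c h, hg' _ (hg1 c h)]
    set e := g c h
    set e' := g e (hg1 c h)
    by_contra hne
    have h3 := hg3 c h
    have h4 := hg3 e (hg1 c h)
    have hc : c ∈ L := h.1
    have he : e ∈ L := (hg1 c h).1
    -- apply the pair `c`, `e`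
    have h5 : f b e = f a c := by
      have hb' := hcom b hbL
      have e1 : c * e * (b * c) = b * e := by
        rw [(hcom c hc e he).eq, (hb' c hc).eq, mul_assoc e c, ← mul_assoc c c, ts_mul_self hT (line_subset hc),
          one_mul, (hcom e he b hbL).eq]
      have e2 : c * e * (a * e) = a * c := by
        rw [(hcom a haL e he).eq, mul_assoc c e, ← mul_assoc e e, ts_mul_self hT (line_subset he),
          one_mul, (hcom c hc a haL).eq]
      calc f b e = c * e * (b * c * v * (b * c)⁻¹) * (c * e)⁻¹ := by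
            show b * e * v * (b * e)⁻¹ = _
            rw [← e1]; group
        _ = c * e * (a * e * v * (a * e)⁻¹) * (c * e)⁻¹ := by
            rw [show b * c * v * (b * c)⁻¹ = a * e * v * (a * e)⁻¹ from h3]
        _ = f a c := by
            show _ = a * c * v * (a * c)⁻¹
            rw [← e2]; group
    rw [h4] at h5
    exact (hff a haL e' (hg1 e _).1 c hc hne).2 h5
  have h2 : ({a, b} : Set G) ⊆ L := by rintro w (rfl | rfl); exacts [haL, hbL]
  rw [Set.ncard_sdiff h2, Set.ncard_pair hb.2.1.symm] at heven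
  have h3 := line_odd hH ha hb
  have h4 := line_three hH ha hb
  rw [← hL] at h3 h4
  rw [Nat.even_iff] at heven h3
  omega

/-- The member of a line commuting with one off it is unique. -/
theorem meet_unique [Finite G] {a b : G} (ha : a ∈ D) (hb : b ∈ nb D a) {v c d : G} (hv : v ∈ D)
    (hvL : v ∉ line D a b) (hc : c ∈ line D a b) (hd : d ∈ line D a b) (hvc : Commute v c) (hvd : Commute v d) :
    c = d := by
  by_contra h
  exact hvL (mem_of_two hH ha hb hc hd h hv hvc hvd)

end CfsgLib.ThreeTransp.SolvLocal
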