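import Cfsg.Agent.Lib.ThreeTransp.SolvLocal.Frames
import Cfsg.Agent.Lib.PresCert.Presented
import Cfsg.Agent.Lib.ThreeTransp.SolvLocal.Cert.F4TopCert
import Cfsg.Agent.Lib.ThreeTransp.SolvLocal.Cert.F4LocalCert
import Cfsg.Agent.Lib.ThreeTransp.SolvLocal.Cert.FLineCert
import Cfsg.Agent.Lib.ThreeTransp.SolvLocal.Cert.F5IdCert
import Cfsg.Agent.Lib.ThreeTransp.SolvLocal.Cert.F5SwapCert
import Cfsg.Agent.Lib.ThreeTransp.SolvLocal.Cert.F5TopCert
import Cfsg.Agent.Lib.ThreeTransp.SolvLocal.Cert.F5LocalCert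

/-!
Orders of the groups generated by the frames.
-/

set_option autoImplicit false
set_option linter.unusedSectionVars false
set_option linter.style.haveILetI false

namespace CfsgLib.ThreeTransp.SolvLocal

open Cfsg CfsgLib.Involutions CfsgLib.ThreeTransp CfsgLib.PresCert

universe u

variable {Q : Type u} [Group Q] (f : Fin 8 → Q)

theorem letters_mono {l m : List (Fin 8)} (h : ∀ x ∈ l, x ∈ m) : lettersGroup l f ≤ lettersGroup m f :=
  Subgroup.closure_mono fun _ ⟨x, hx, e⟩ => ⟨x, h x hx, e⟩

/-- One step of a bound along a certificate. -/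
theorem bound_step {C : Cert} {js : List Cert.Just} (V : Cert.Valid C js) (hf : ∀ x, f x * f x = 1)
    {known : List (List (Fin 8))} (hk : ∀ w ∈ known, (w.map f).prod = 1) {sel l : List (Fin 8)}
    (hr : okRels C sel known 0 = true) (hs : okSubs C sel (l.map fun x => [x]) 0 = true) {b : ℕ}
    (hl : ∀ x ∈ l, x ∈ sel) (hb : CardLE (lettersGroup l f) b) : CardLE (lettersGroup sel f) (C.n * b) := by
  have h := index_bound V hf hk hr hs
  rw [wordsGroup_singletons] at h
  exact CardLE.step (letters_mono f hl) hb h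

theorem bound_nil : CardLE (lettersGroup ([] : List (Fin 8)) f) 1 := by
  rw [← wordsGroup_singletons]
  simpa [wordsGroup_nil] using CardLE.bot (Q := Q)

theorem bound_three (hf : ∀ x, f x * f x = 1) (hk : ∀ w ∈ known3, (w.map f).prod = 1) (h7 : f 7 = f 0) :
    CardLE (Subgroup.closure (Set.range f)) 25920 := by
  have h1 := bound_step f Cert.FLine.valid hf hk (sel := [0, 1, 2, 3, 4]) (l := [])
    (by decide +kernel) (by decide +kernel) (by decide) (bound_nil f)
  have h2 := bound_step f Cert.F4Local.valid hf hk (sel := [0, 1, 2, 3, 4, 5]) (l := [0, 1, 2, 3, 4])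
    (by decide +kernel) (by decide +kernel) (by decide) h1
  have h3 := bound_step f Cert.F4Top.valid hf hk (sel := [0, 1, 2, 3, 4, 5, 6]) (l := [0, 1, 2, 3, 4, 5])
    (by decide +kernel) (by decide +kernel) (by decide) h2
  have e : Subgroup.closure (Set.range f) = lettersGroup [0, 1, 2, 3, 4, 5, 6] f := by
    refine le_antisymm ((Subgroup.closure_le _).2 ?_) (Subgroup.closure_mono fun _ ⟨x, _, e⟩ => ⟨x, e⟩)
    rintro _ ⟨x, rfl⟩
    fin_cases x
    all_goals first
      | exact Subgroup.subset_closure ⟨_, by decide, rfl⟩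
      | exact h7 ▸ Subgroup.subset_closure ⟨0, by decide, rfl⟩
  rw [e]
  exact h3

theorem range_eq_letters : Subgroup.closure (Set.range f) = lettersGroup (List.finRange 8) f :=
  le_antisymm (Subgroup.closure_mono fun _ ⟨x, e⟩ => ⟨x, List.mem_finRange x, e⟩)
    (Subgroup.closure_mono fun _ ⟨x, _, e⟩ => ⟨x, e⟩)

theorem bound_nine (hf : ∀ x, f x * f x = 1) (hk : ∀ w ∈ known9 3 4 2, (w.map f).prod = 1) :
    CardLE (Subgroup.closure (Set.range f)) 13685760 := by
  have h1 := bound_step f Cert.FLine.valid hf hk (sel := [0, 1, 2, 3, 4]) (l := [])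
    (by decide +kernel) (by decide +kernel) (by decide) (bound_nil f)
  have h2 := bound_step f Cert.F5Local.valid hf hk (sel := [0, 1, 2, 3, 4, 5, 7]) (l := [0, 1, 2, 3, 4])
    (by decide +kernel) (by decide +kernel) (by decide) h1
  have h3 := bound_step f Cert.F5Top.valid hf hk (sel := List.finRange 8) (l := [0, 1, 2, 3, 4, 5, 7])
    (by decide +kernel) (by decide +kernel) (by decide) h2
  rw [range_eq_letters]
  exact h3

/-- The other two kinds of matching bound the class by the index of a subgroup of the centraliser. -/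
theorem centralizer_index {C : Cert} {js : List Cert.Just} (V : Cert.Valid C js) (hf : ∀ x, f x * f x = 1)
    {known : List (List (Fin 8))} (hk : ∀ w ∈ known, (w.map f).prod = 1)
    (hr : okRels C (List.finRange 8) known 0 = true)
    (hs : okSubs C (List.finRange 8) ([0, 1, 2, 3, 4, 5, 7].map fun x => [x]) 0 = true)
    (htop : Subgroup.closure (Set.range f) = ⊤) (hc : ∀ a, a ≠ 6 → Commute (f 0) (f a)) :
    (Subgroup.centralizer ({f 0} : Set Q)).index ≤ C.n := by
  obtain ⟨h1, h2⟩ := index_bound V hf hk hr hs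
  rw [range_eq_letters] at htop
  rw [wordsGroup_singletons, htop, Subgroup.relIndex_top_right] at h1 h2
  have hle : lettersGroup [0, 1, 2, 3, 4, 5, 7] f ≤ Subgroup.centralizer ({f 0} : Set Q) := by
    refine (Subgroup.closure_le _).2 ?_
    rintro _ ⟨x, hx, rfl⟩
    exact Subgroup.mem_centralizer_singleton_iff.2 (hc x fun e => absurd (e ▸ hx) (by decide)).eq.symm
  exact (Nat.le_of_dvd (Nat.pos_of_ne_zero h2) (Subgroup.index_dvd_of_le hle)).trans h1

variable {G : Type u} [Group G] {D : Set G}

theorem class_index (hD : TClass D) {a : G} (ha : a ∈ D) :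
    (Subgroup.centralizer ({a} : Set G)).index = D.ncard := by
  have hs : D = MulAction.orbit (ConjAct G) a := by
    ext b
    constructor
    · intro hb
      obtain ⟨g, rfl⟩ := hD.trans a ha b hb
      exact ⟨ConjAct.toConjAct g, by simp [ConjAct.toConjAct_smul]⟩
    · rintro ⟨g, rfl⟩
      simpa [ConjAct.smul_def] using hD.conj (ConjAct.ofConjAct g) a ha
  rw [hs, ← MulAction.index_stabilizer, Subgroup.centralizer_eq_comap_stabilizer]
  exact Subgroup.index_comap_of_surjective _ ConjAct.toConjAct.surjective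

/-- The three cases: their frames and the size of the class. -/
theorem cases_of_hyp [Finite G] (hH : Hyp D) :
    (Nonempty (G ≃* Equiv.Perm (Fin 6)) ∧ D.ncard = 15) ∨
      ((∃ f : Fin 8 → G, (∀ a, f a ∈ D) ∧ (∀ w ∈ known3, (w.map f).prod = 1) ∧
          Subgroup.closure (Set.range f) = ⊤ ∧ f 7 = f 0) ∧ D.ncard = 45) ∨
      ((∃ f : Fin 8 → G, (∀ a, f a ∈ D) ∧ (∀ w ∈ known9 3 4 2, (w.map f).prod = 1) ∧
          Subgroup.closure (Set.range f) = ⊤) ∧ D.ncard = 165) := by
  obtain ⟨L, n, hL, hn, -, hD, h | h | h⟩ := params hH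
  · obtain ⟨rfl, rfl⟩ := h
    exact Or.inl ⟨sym_six hH hL hn, hD⟩
  · obtain ⟨rfl, rfl⟩ := h
    exact Or.inr (Or.inl ⟨frame_three hH hL hn, hD⟩)
  · obtain ⟨rfl, rfl⟩ := h
    refine Or.inr (Or.inr ⟨?_, hD⟩)
    obtain ⟨f, hfD, htop, hc, hk⟩ := frame_nine hH hL hn
    have hf : ∀ x, f x * f x = 1 := fun x => ts_mul_self hH.cls.ts (hfD x)
    have hidx := class_index hH.cls (hfD 0)
    rw [hD] at hidx
    rcases hk with hk | hk | hk
    · have := centralizer_index f Cert.F5Id.valid hf hk (by decide +kernel) (by decide +kernel) htop hc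
      rw [hidx, show Cert.F5Id.cert.n = 135 from rfl] at this
      omega
    · have := centralizer_index f Cert.F5Swap.valid hf hk (by decide +kernel) (by decide +kernel) htop hc
      rw [hidx, show Cert.F5Swap.cert.n = 1 from rfl] at this
      omega
    · exact ⟨f, hfD, hk, htop⟩

end CfsgLib.ThreeTransp.SolvLocal
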