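import Cfsg.Agent.Lib.ThreeTransp.SolvLocal.Trans
import Cfsg.Agent.Lib.ThreeTransp.LocalThree.Count
import Cfsg.Agent.Lib.ThreeTransp.TwoP.Swap

/-!
The parameters: lines of three members with three lines through a member, or lines of five members
with three or nine lines through a member.
-/

set_option autoImplicit false
set_option linter.unusedSectionVars false
set_option linter.style.haveILetI false

namespace CfsgLib.ThreeTransp.SolvLocal

open Cfsg CfsgLib.Involutions CfsgLib.ThreeTransp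

universe u

variable {G : Type u} [Group G] {D : Set G}

/-- The second moment inequality for a relation. -/
theorem moments [Finite G] (S W : Set G) (R : G → G → Prop) (p q : ℕ)
    (hp : ∀ a ∈ S, {w | w ∈ W ∧ R w a}.ncard = p)
    (hq : ∀ a ∈ S, ∀ b ∈ S, a ≠ b → {w | w ∈ W ∧ R w a ∧ R w b}.ncard = q) :
    (S.ncard * p) ^ 2 ≤ W.ncard * (S.ncard * p + S.ncard * (S.ncard - 1) * q) := by
  classical
  haveI : Fintype G := Fintype.ofFinite G
  have hS : S.ncard = S.toFinset.card := Set.ncard_eq_toFinset_card' S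
  have hW : W.ncard = W.toFinset.card := Set.ncard_eq_toFinset_card' W
  have hset : ∀ (P : G → Prop) [DecidablePred P], {w | w ∈ W ∧ P w}.ncard = (W.toFinset.filter P).card := by
    intro P _
    rw [← Set.ncard_coe_finset]
    congr 1
    ext w; simp
  let f : G → ℕ := fun w => (S.toFinset.filter fun a => R w a).card
  have h1 : ∑ w ∈ W.toFinset, f w = S.ncard * p := by
    simp only [f, Finset.card_filter]
    rw [Finset.sum_comm]
    simp only [← Finset.card_filter]
    rw [Finset.sum_congr rfl (fun a ha => by rw [← hset, hp a (Set.mem_toFinset.1 ha)]), Finset.sum_const, hS,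
      smul_eq_mul]
  have h2 : ∑ w ∈ W.toFinset, f w ^ 2 = S.ncard * p + S.ncard * (S.ncard - 1) * q := by
    have e : ∀ w, f w ^ 2 = ∑ a ∈ S.toFinset, ∑ b ∈ S.toFinset, if R w a ∧ R w b then 1 else 0 := by
      intro w
      simp only [f, Finset.card_filter, sq, Finset.sum_mul_sum]
      refine Finset.sum_congr rfl fun a _ => Finset.sum_congr rfl fun b _ => ?_
      by_cases h : R w a <;> by_cases h' : R w b <;> simp [h, h']
    simp only [e]
    rw [Finset.sum_comm]
    have e2 : ∀ a ∈ S.toFinset,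
        (∑ w ∈ W.toFinset, ∑ b ∈ S.toFinset, if R w a ∧ R w b then 1 else 0) = p + (S.ncard - 1) * q := by
      intro a ha
      rw [Finset.sum_comm, ← Finset.add_sum_erase _ _ ha]
      congr 1
      · rw [← Finset.card_filter, ← hset]
        rw [show {w | w ∈ W ∧ R w a ∧ R w a} = {w | w ∈ W ∧ R w a} by ext w; simp]
        exact hp a (Set.mem_toFinset.1 ha)
      · rw [Finset.sum_congr rfl (fun b hb => by
          rw [← Finset.card_filter, ← hset, hq a (Set.mem_toFinset.1 ha) b
            (Set.mem_toFinset.1 (Finset.mem_of_mem_erase hb)) (Finset.ne_of_mem_erase hb).symm]),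
          Finset.sum_const, Finset.card_erase_of_mem ha, hS, smul_eq_mul]
    rw [Finset.sum_congr rfl e2, Finset.sum_const, smul_eq_mul, ← hS]
    ring
  rw [← h2, ← h1, hW]
  exact sq_sum_le_card_mul_sum_sq

variable (hH : Hyp D)
include hH

/-- The line size `L` and the number `n` of lines through a member. -/
theorem params [Finite G] : ∃ L n : ℕ, (∀ x ∈ D, ∀ y ∈ nb D x, (line D x y).ncard = L) ∧
    (∀ x ∈ D, ∀ v ∈ D, ¬ Commute x v → (both D x v).ncard = n) ∧
    (∀ x ∈ D, (nb D x).ncard = n * (L - 1)) ∧ D.ncard = 1 + n * (L - 1) + (L - 1) ^ 2 * (n - 1) ∧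
    ((L = 3 ∧ n = 3) ∨ (L = 5 ∧ n = 3) ∨ (L = 5 ∧ n = 9)) := by
  classical
  have hT := hH.cls.ts
  have hconj := hH.cls.conj
  haveI : Fact (Nat.Prime 3) := ⟨Nat.prime_three⟩
  obtain ⟨x, hx, -, -, -⟩ := hH.cls.two
  obtain ⟨y, hy⟩ := hH.edges x hx
  set L := (line D x y).ncard with hL
  have hLc : ∀ x' ∈ D, ∀ y' ∈ nb D x', (line D x' y').ncard = L := fun x' hx' y' hy' => line_ncard hH hx hy hx' hy'
  have hL35 : L = 3 ∨ L = 5 := by
    have h1 := line_three hH hx hy
    have h2 := line_le_five hH hx hy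
    have h3 := line_odd hH hx hy
    rw [← hL] at h1 h2 h3
    rw [Nat.even_iff] at h3
    omega
  obtain ⟨u, hu, hyu⟩ := hH.pair x hx y hy
  set n := (both D y u).ncard with hn
  have hn' : ∀ x' ∈ D, ∀ v ∈ D, ¬ Commute x' v → (both D x' v).ncard = n := fun x' hx' v hv h =>
    hH.cls.both_ncard (hH.nonedge y hy.1 u hu.1 hyu x' hx' v hv h).symm
  -- the common neighbours of a non-commuting pair
  have hnc : ∀ x' ∈ D, ∀ v ∈ D, ¬ Commute x' v → ∀ a ∈ both D x' v, ∀ b ∈ both D x' v, a ≠ b → ¬ Commute a b := by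
    intro x' hx' v hv hxv a ha b hb hab hc
    have h1 : b ∈ nb D a := ⟨hb.1, hab.symm, hc⟩
    have h2 := tri hH ha.1 h1 hx' ha.2.1 hb.2.1
    have h3 := tri hH ha.1 h1 hv ha.2.2 hb.2.2
    exact hxv (line_clique h2 h3)
  have hne : ∀ x' ∈ D, ∀ v ∈ D, ¬ Commute x' v → ∀ a ∈ both D x' v, a ∈ nb D x' ∧ a ∈ nb D v := by
    intro x' hx' v hv hxv a ha
    exact ⟨⟨ha.1, fun e => hxv ((e ▸ ha.2.2 : Commute v x')).symm, ha.2.1⟩,
      ha.1, fun e => hxv (e ▸ ha.2.1), ha.2.2⟩
  have hpow : ∃ k, n = 3 ^ k := by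
    have hSys : CfsgLib.ThreeTransp.TwoP.Sys 3 D := ⟨Nat.prime_three, by norm_num, hT.1, hconj,
      fun d hd e he => (em (Commute d e)).imp_right fun h => ts_cube hT hd he h⟩
    refine hSys.closed_card (S := both D y u) (fun a ha => ha.1) (hH.join y hy.1 u hu.1 hyu)
      (fun a ha b hb hab => hnc y hy.1 u hu.1 hyu a ha b hb hab) fun a ha b hb => ⟨?_, ?_, ?_⟩
    · simpa [ts_inv hT ha.1] using hconj a b hb.1
    · exact (ha.2.1.mul_right hb.2.1).mul_right ha.2.1
    · exact (ha.2.2.mul_right hb.2.2).mul_right ha.2.2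
  -- neighbours
  have hnb : ∀ x' ∈ D, (nb D x').ncard = n * (L - 1) := by
    intro x' hx'
    obtain ⟨a, ha⟩ := hH.edges x' hx'
    obtain ⟨b, hb, hab⟩ := hH.pair x' hx' a ha
    obtain ⟨v, hv, hxv⟩ : ∃ v ∈ D, ¬ Commute x' v := by
      by_contra h
      push Not at h
      obtain ⟨c, hc, hn'⟩ := hH.cls.exists_noncommute hx'
      exact hn' (h c hc).symm
    have h1 := LocalThree.double_count (nb D x') (both D x' v) (fun z c => c ∈ line D x' z) 1 (L - 1) ?_ ?_
    · rw [hn' x' hx' v hv hxv, mul_one] at h1; exact h1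
    · intro z hz
      obtain ⟨c, hc, hvc⟩ := exists_meet hH hx' hz hv
      have hvL : v ∉ line D x' z := fun h => hxv (line_clique (left_mem_line hx' hz) h)
      rw [Set.ncard_eq_one]
      refine ⟨c, Set.eq_singleton_iff_unique_mem.2
        ⟨⟨⟨line_subset hc, line_clique (left_mem_line hx' hz) hc, hvc⟩, hc⟩, fun d hd => ?_⟩⟩
      exact meet_unique hH hx' hz hv hvL hd.2 hc hd.1.2.2 hvc
    · intro c hc
      have hcx := (hne x' hx' v hv hxv c hc).1
      rw [← hLc x' hx' c hcx, ← Set.ncard_sdiff_singleton_of_mem (left_mem_line hx' hcx)]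
      congr 1
      ext z
      constructor
      · rintro ⟨hz, hcz⟩
        refine ⟨?_, hz.2.1⟩
        rw [(line_eq hH hx' hz (left_mem_line hx' hz) hcz hcx.2.1.symm).2]
        exact right_mem_line hz
      · rintro ⟨hz, hzx : z ≠ x'⟩
        have hz' := line_pair hH hx' hcx (left_mem_line hx' hcx) hz hzx.symm
        refine ⟨hz', ?_⟩
        rw [(line_eq hH hx' hcx (left_mem_line hx' hcx) hz hzx.symm).2]
        exact right_mem_line hcx
  have hn3 : 3 ≤ n := by
    obtain ⟨k, hk⟩ := hpow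
    rcases k with _ | k
    · exfalso
      have h1 := hnb x hx
      rw [hk, pow_zero, one_mul, ← hLc x hx y hy, ← Set.ncard_sdiff_singleton_of_mem (left_mem_line hx hy)] at h1
      have h2 : line D x y \ {x} = nb D x := by
        refine Set.eq_of_subset_of_ncard_le ?_ (le_of_eq h1) (Set.toFinite _)
        rintro z ⟨hz, hzx : z ≠ x⟩
        exact line_pair hH hx hy (left_mem_line hx hy) hz hzx.symm
      exact hyu (line_clique (h2.symm.subset hy).1 (h2.symm.subset hu).1)
    · rw [hk]; exact le_self_pow₀ (by norm_num) (by omega)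
  -- the non-neighbours
  obtain ⟨v, hv, hxv⟩ : ∃ v ∈ D, ¬ Commute x v := by
    obtain ⟨c, hc, hn'⟩ := hH.cls.exists_noncommute hx
    exact ⟨c, hc, fun h => hn' h.symm⟩
  set S := both D x v with hS
  have hSn : S.ncard = n := hn' x hx v hv hxv
  set F := {w | w ∈ D ∧ ¬ Commute x w} with hF
  have hfar : ∀ a ∈ nb D x, {w | w ∈ F ∧ Commute w a}.ncard = (n - 1) * (L - 1) := by
    intro a ha
    have e : {w | w ∈ F ∧ Commute w a} = nb D a \ (line D x a \ {a}) := by
      ext w
      constructor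
      · rintro ⟨⟨hw, hxw⟩, hwa⟩
        refine ⟨⟨hw, fun e => hxw (e ▸ ha.2.2), hwa.symm⟩, fun h => hxw (line_clique (left_mem_line hx ha) h.1)⟩
      · rintro ⟨hw, hw'⟩
        refine ⟨⟨hw.1, fun hc => hw' ⟨tri hH hx ha hw.1 hc.symm hw.2.2.symm, hw.2.1⟩⟩, hw.2.2.symm⟩
    have hsub : line D x a \ {a} ⊆ nb D a := by
      rintro w ⟨hw, hwa : w ≠ a⟩
      exact line_pair hH hx ha (right_mem_line ha) hw hwa.symm
    rw [e, Set.ncard_sdiff hsub, hnb a ha.1, Set.ncard_sdiff_singleton_of_mem (right_mem_line ha), hLc x hx a ha,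
      Nat.sub_mul, one_mul]
  have hFcard : F.ncard = (L - 1) * ((n - 1) * (L - 1)) := by
    have h1 := LocalThree.double_count (nb D x) F (fun a w => Commute w a) ((n - 1) * (L - 1)) n hfar
      (fun w hw => by
        rw [← hn' x hx w hw.1 hw.2]
        congr 1
        ext a
        exact ⟨fun h => ⟨h.1.1, h.1.2.2, h.2⟩, fun h => ⟨(hne x hx w hw.1 hw.2 a h).1, h.2.2⟩⟩)
    rw [hnb x hx, mul_assoc, mul_comm F.ncard] at h1
    exact (Nat.eq_of_mul_eq_mul_left (by omega) h1).symm
  have hDcard : D.ncard = 1 + n * (L - 1) + (L - 1) ^ 2 * (n - 1) := by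
    have e : D = insert x (nb D x ∪ F) := by
      ext w
      constructor
      · intro hw
        by_cases hwx : w = x
        · exact Or.inl hwx
        · by_cases hc : Commute x w
          · exact Or.inr (Or.inl ⟨hw, hwx, hc⟩)
          · exact Or.inr (Or.inr ⟨hw, hc⟩)
      · rintro (rfl | h | h)
        exacts [hx, h.1, h.1]
    have hd : Disjoint (nb D x) F := Set.disjoint_left.2 fun w h h' => h'.2 h.2.2
    have hxn : x ∉ nb D x ∪ F := by
      rintro (h | h)
      exacts [h.2.1 rfl, h.2 (Commute.refl x)]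
    conv_lhs => rw [e]
    rw [Set.ncard_insert_of_notMem hxn (Set.toFinite _), Set.ncard_union_eq hd (Set.toFinite _) (Set.toFinite _),
      hnb x hx, hFcard, pow_two, mul_comm (n - 1) (L - 1), ← mul_assoc]
    omega
  refine ⟨L, n, hLc, hn', hnb, hDcard, ?_⟩
  -- members commuting with neither
  set W := {w | w ∈ F ∧ ¬ Commute v w} with hW
  have hp : ∀ a ∈ S, {w | w ∈ W ∧ Commute w a}.ncard = (n - 2) * (L - 1) := by
    intro a ha
    obtain ⟨hax, hav⟩ := hne x hx v hv hxv a ha
    have e : {w | w ∈ W ∧ Commute w a} = nb D a \ ((line D x a \ {a}) ∪ (line D v a \ {a})) := by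
      ext w
      constructor
      · rintro ⟨⟨⟨hw, hxw⟩, hvw⟩, hwa⟩
        refine ⟨⟨hw, fun e => hxw (e ▸ hax.2.2), hwa.symm⟩, ?_⟩
        rintro (h | h)
        · exact hxw (line_clique (left_mem_line hx hax) h.1)
        · exact hvw (line_clique (left_mem_line hv hav) h.1)
      · rintro ⟨hw, hw'⟩
        refine ⟨⟨⟨hw.1, fun hc => hw' (Or.inl ⟨tri hH hx hax hw.1 hc.symm hw.2.2.symm, hw.2.1⟩)⟩,
          fun hc => hw' (Or.inr ⟨tri hH hv hav hw.1 hc.symm hw.2.2.symm, hw.2.1⟩)⟩, hw.2.2.symm⟩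
    have hsub : (line D x a \ {a}) ∪ (line D v a \ {a}) ⊆ nb D a := by
      rintro w (⟨hw, hwa : w ≠ a⟩ | ⟨hw, hwa : w ≠ a⟩)
      · exact line_pair hH hx hax (right_mem_line hax) hw hwa.symm
      · exact line_pair hH hv hav (right_mem_line hav) hw hwa.symm
    have hd : Disjoint (line D x a \ {a}) (line D v a \ {a}) := by
      refine Set.disjoint_left.2 fun w h h' => hxv ?_
      have hwa : w ≠ a := h.2
      have e1 := (line_eq hH hx hax (right_mem_line hax) h.1 hwa.symm).2
      have e2 := (line_eq hH hv hav (right_mem_line hav) h'.1 hwa.symm).2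
      exact line_clique (left_mem_line hx hax) (e1 ▸ e2.symm ▸ left_mem_line hv hav)
    rw [e, Set.ncard_sdiff hsub, hnb a ha.1, Set.ncard_union_eq hd (Set.toFinite _) (Set.toFinite _),
      Set.ncard_sdiff_singleton_of_mem (right_mem_line hax), hLc x hx a hax,
      Set.ncard_sdiff_singleton_of_mem (right_mem_line hav), hLc v hv a hav, Nat.sub_mul, two_mul]
  have hq : ∀ a ∈ S, ∀ b ∈ S, a ≠ b → {w | w ∈ W ∧ Commute w a ∧ Commute w b}.ncard = n - 2 := by
    intro a ha b hb hab
    have hnab := hnc x hx v hv hxv a ha b hb hab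
    have key : ∀ x' ∈ D, a ∈ nb D x' → b ∈ nb D x' → ∀ w ∈ both D a b, Commute x' w → w = x' := by
      intro x' hx' hax hbx w hw hc
      by_contra hne'
      have h1 := tri hH hx' hax hw.1 hc.symm hw.2.1.symm
      have h2 := tri hH hx' hbx hw.1 hc.symm hw.2.2.symm
      have e1 := (line_eq hH hx' hax (left_mem_line hx' hax) h1 fun e => hne' e.symm).2
      have e2 := (line_eq hH hx' hbx (left_mem_line hx' hbx) h2 fun e => hne' e.symm).2
      exact hnab (line_clique (right_mem_line hax) (e1 ▸ e2.symm ▸ right_mem_line hbx))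
    have hsub : ({x, v} : Set G) ⊆ both D a b := by
      rintro w (rfl | rfl)
      · exact ⟨hx, ha.2.1.symm, hb.2.1.symm⟩
      · exact ⟨hv, ha.2.2.symm, hb.2.2.symm⟩
    have e : {w | w ∈ W ∧ Commute w a ∧ Commute w b} = both D a b \ {x, v} := by
      ext w
      constructor
      · rintro ⟨⟨⟨hw, hxw⟩, hvw⟩, h1, h2⟩
        refine ⟨⟨hw, h1.symm, h2.symm⟩, ?_⟩
        rintro (rfl | rfl)
        exacts [hxw (Commute.refl _), hvw (Commute.refl _)]
      · rintro ⟨hw, hw'⟩
        simp only [Set.mem_insert_iff, Set.mem_singleton_iff, not_or] at hw'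
        refine ⟨⟨⟨hw.1, fun hc => hw'.1 ?_⟩, fun hc => hw'.2 ?_⟩, hw.2.1.symm, hw.2.2.symm⟩
        · exact key x hx (hne x hx v hv hxv a ha).1 (hne x hx v hv hxv b hb).1 w hw hc
        · exact key v hv (hne x hx v hv hxv a ha).2 (hne x hx v hv hxv b hb).2 w hw hc
    rw [e, Set.ncard_sdiff hsub, hn' a ha.1 b hb.1 hnab, Set.ncard_pair (fun e : x = v => hxv (e ▸ Commute.refl x))]
  have hWcard : W.ncard + (n * (L - 1) + 1) = F.ncard + n := by
    have hd1 : F = W ∪ {w | w ∈ F ∧ Commute v w} := by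
      ext w
      exact ⟨fun h => (em (Commute v w)).elim (fun hc => Or.inr ⟨h, hc⟩) fun hc => Or.inl ⟨h, hc⟩,
        fun h => h.elim (fun h => h.1) fun h => h.1⟩
    have hd2 : insert v (nb D v) = {w | w ∈ F ∧ Commute v w} ∪ S := by
      ext w
      constructor
      · rintro (rfl | h)
        · exact Or.inl ⟨⟨hv, hxv⟩, Commute.refl _⟩
        · by_cases hc : Commute x w
          · exact Or.inr ⟨h.1, hc, h.2.2⟩
          · exact Or.inl ⟨⟨h.1, hc⟩, h.2.2⟩
      · rintro (⟨⟨hw, -⟩, hc⟩ | h)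
        · by_cases hwv : w = v
          · exact Or.inl hwv
          · exact Or.inr ⟨hw, hwv, hc⟩
        · exact Or.inr (hne x hx v hv hxv w h).2
    have hj1 : Disjoint W {w | w ∈ F ∧ Commute v w} := Set.disjoint_left.2 fun w h h' => h.2 h'.2
    have hj2 : Disjoint {w | w ∈ F ∧ Commute v w} S := Set.disjoint_left.2 fun w h h' => h.1.2 h'.2.1
    have c1 := congrArg Set.ncard hd1
    have c2 := congrArg Set.ncard hd2
    rw [Set.ncard_union_eq hj1 (Set.toFinite _) (Set.toFinite _)] at c1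
    rw [Set.ncard_union_eq hj2 (Set.toFinite _) (Set.toFinite _),
      Set.ncard_insert_of_notMem (fun h => h.2.1 rfl) (Set.toFinite _), hnb v hv, hSn] at c2
    omega
  have hM := moments S W (fun w a => Commute w a) _ _ hp hq
  rw [hSn] at hM
  rw [hFcard] at hWcard
  obtain ⟨k, hk⟩ := hpow
  obtain ⟨m, hm⟩ : ∃ m, n = m + 2 := ⟨n - 2, by omega⟩
  rw [hm, show m + 2 - 1 = m + 1 by omega, show m + 2 - 2 = m by omega] at hM
  rw [hm, show m + 2 - 1 = m + 1 by omega] at hWcard
  rcases hL35 with h | h <;> rw [h] at hM hWcard <;> norm_num at hM hWcard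
  · have hm4 : m < 6 := by
      by_contra hc
      have : W.ncard = 3 * m + 1 := by omega
      rw [this] at hM
      nlinarith [mul_le_mul (Nat.le_of_not_lt hc) (Nat.le_refl m) (Nat.zero_le _) (Nat.zero_le _)]
    left
    refine ⟨h, ?_⟩
    rcases k with _ | _ | k
    · simp at hk; omega
    · simpa using hk
    · have : 9 ≤ n := by rw [hk, pow_succ, pow_succ]; have := Nat.one_le_pow k 3 (by norm_num); nlinarith
      omega
  · have hm18 : m < 24 := by
      by_contra hc
      have : W.ncard = 13 * m + 9 := by omega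
      rw [this] at hM
      nlinarith [mul_le_mul (Nat.le_of_not_lt hc) (Nat.le_refl m) (Nat.zero_le _) (Nat.zero_le _)]
    right
    rcases k with _ | _ | _ | k
    · simp at hk; omega
    · left; exact ⟨h, by simpa using hk⟩
    · right; exact ⟨h, by simpa using hk⟩
    · have : 27 ≤ n := by
        rw [hk, pow_succ, pow_succ, pow_succ]; have := Nat.one_le_pow k 3 (by norm_num); nlinarith
      omega

end CfsgLib.ThreeTransp.SolvLocal
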