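import Cfsg.Agent.Lib.ThreeTransp.SolvLocal.Gens
import Cfsg.Agent.S2530
import Cfsg.Agent.Lib.PresCert.Cox
import Mathlib.GroupTheory.SpecificGroups.Alternating.Simple

/-!
The generating frames in the three cases, and the identification of the smallest one.
-/

set_option autoImplicit false
set_option linter.unusedSectionVars false
set_option linter.style.haveILetI false

namespace CfsgLib.ThreeTransp.SolvLocal

open Cfsg CfsgLib.Involutions CfsgLib.ThreeTransp
open scoped commutatorElement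

universe u

variable {G : Type u} [Group G] {D : Set G}

/-- A member `x`, two lines through it and a member commuting with a member of each. -/
structure Conf (D : Set G) (x y u c : G) : Prop where
  hx : x ∈ D
  hy : y ∈ nb D x
  hu : u ∈ nb D x
  hyu : ¬ Commute y u
  hc : c ∈ D
  hcx : ¬ Commute x c
  hcu : Commute c u
  hcy : Commute c y

variable (hH : Hyp D)
include hH

theorem exists_conf [Finite G] {n : ℕ} (hn : ∀ x ∈ D, ∀ v ∈ D, ¬ Commute x v → (both D x v).ncard = n)
    (h3 : 3 ≤ n) : ∃ x y u c : G, Conf D x y u c := by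
  classical
  obtain ⟨x, hx, -, -, -⟩ := hH.cls.two
  obtain ⟨y, hy⟩ := hH.edges x hx
  obtain ⟨u, hu, hyu⟩ := hH.pair x hx y hy
  obtain ⟨c, hc, hcne⟩ := Set.exists_ne_of_one_lt_ncard
    (show 1 < (both D y u).ncard by rw [hn y hy.1 u hu.1 hyu]; omega) x
  refine ⟨x, y, u, c, hx, hy, hu, hyu, hc.1, fun hxc => hyu ?_, hc.2.2.symm, hc.2.1.symm⟩
  have h1 : c ∈ nb D x := ⟨hc.1, hcne, hxc⟩
  exact line_clique (tri hH hx h1 hy.1 hy.2.2.symm hc.2.1) (tri hH hx h1 hu.1 hu.2.2.symm hc.2.2)

omit hH in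
theorem Conf.not_mem {x y u c : G} (C : Conf D x y u c) : u ∉ line D x y ∧ c ∉ line D x y ∧ c ∉ line D x u :=
  ⟨fun h => C.hyu (line_clique (right_mem_line C.hy) h), fun h => C.hcx (line_clique (left_mem_line C.hx C.hy) h),
    fun h => C.hcx (line_clique (left_mem_line C.hx C.hu) h)⟩

theorem Conf.facts [Finite G] {x y u c : G} (C : Conf D x y u c) {z : G} (hz : z ∈ line D x y) (hzx : z ≠ x) :
    z ∈ nb D x ∧ ¬ Commute z u ∧ (z ≠ y → ¬ Commute c z) :=
  ⟨line_pair hH C.hx C.hy (left_mem_line C.hx C.hy) hz hzx.symm,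
    off_line hH C.hx C.hy C.hu C.not_mem.1 ⟨hz, hzx⟩ ⟨right_mem_line C.hu, C.hu.2.1⟩,
    fun hzy hc => hzy (meet_unique hH C.hx C.hy C.hc C.not_mem.2.1 hz (right_mem_line C.hy) hc C.hcy)⟩

/-- The third line of a configuration. -/
theorem Conf.third [Finite G] {x y u c : G} (C : Conf D x y u c) :
    y * u * y ∈ nb D x ∧ ¬ Commute y (y * u * y) ∧ ¬ Commute u (y * u * y) := by
  have hT := hH.cls.ts
  have hiy := ts_inv hT C.hy.1
  obtain ⟨h1, h2⟩ := ts_third_not_commute hT C.hy.1 C.hu.1 C.hyu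
  rw [← ts_braid hT C.hy.1 C.hu.1 C.hyu] at h1 h2
  refine ⟨⟨by simpa [hiy] using hH.cls.conj y u C.hu.1, fun e => C.hu.2.1 ?_, ?_⟩, h1, h2⟩
  · have e1 : u = y * (y * u * y) * y := (LocalThree.cnj_twice hT C.hy.1).symm
    rw [e1, e, LocalThree.cnj_self hT C.hy.1 C.hy.2.2.symm]
  · exact (C.hy.2.2.mul_right C.hu.2.2).mul_right C.hy.2.2

/-- Three lines of three members: the symmetric group of degree six. -/
theorem sym_six [Finite G] (hL : ∀ x ∈ D, ∀ y ∈ nb D x, (line D x y).ncard = 3)
    (hn : ∀ x ∈ D, ∀ v ∈ D, ¬ Commute x v → (both D x v).ncard = 3) :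
    Nonempty (G ≃* Equiv.Perm (Fin 6)) := by
  classical
  have hT := hH.cls.ts
  obtain ⟨x, y, u, c, C⟩ := exists_conf hH hn le_rfl
  obtain ⟨z, hz, hzx, hzy⟩ := hH.big x C.hx y C.hy
  obtain ⟨hznb, hzu, hcz⟩ := C.facts hH hz hzx
  have hcz' := hcz hzy
  have hline : line D x y = {x, y, z} := by
    refine (Set.eq_of_subset_of_ncard_le ?_ ?_ (Set.toFinite _)).symm
    · rintro w (rfl | rfl | rfl)
      exacts [left_mem_line C.hx C.hy, right_mem_line C.hy, hz]
    · rw [hL x C.hx y C.hy, Set.ncard_eq_three.2 ⟨x, y, z, C.hy.2.1.symm, hzx.symm, hzy.symm, rfl⟩]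
  let f : Fin 5 → G := ![x, c, z, u, y]
  have hfD : ∀ i, f i ∈ D := by
    intro i; fin_cases i
    exacts [C.hx, C.hc, hznb.1, C.hu.1, C.hy.1]
  have hcom : ∀ i j : Fin 5, (i : ℕ) + 1 < j → Commute (f i) (f j) := by
    intro i j h
    fin_cases i <;> fin_cases j <;>
      first
        | exact absurd h (by decide)
        | exact C.hy.2.2
        | exact C.hu.2.2
        | exact hznb.2.2
        | exact C.hcu
        | exact C.hcy
        | exact (line_clique hz (right_mem_line C.hy))
  have hnc : ∀ i j : Fin 5, (i : ℕ) + 1 = j → ¬ Commute (f i) (f j) := by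
    intro i j h
    fin_cases i <;> fin_cases j <;>
      first
        | exact absurd h (by decide)
        | exact C.hcx
        | exact hcz'
        | exact hzu
        | exact fun h' => C.hyu h'.symm
  have hrel : ∀ i j, (f i * f j) ^ CoxeterMatrix.A 5 i j = 1 := by
    intro i j
    rcases lt_trichotomy (i : ℕ) j with h | h | h
    · rcases Nat.lt_or_ge ((i : ℕ) + 1) j with h' | h'
      · have e : CoxeterMatrix.A 5 i j = 2 := by
          show (if i = j then 1 else if (j : ℕ) + 1 = i ∨ (i : ℕ) + 1 = j then 3 else 2) = 2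
          rw [if_neg (fun e => by rw [e] at h; omega), if_neg (by omega)]
        rw [e]; exact (invol_commute_iff (ts_invol hT (hfD i)) (ts_invol hT (hfD j))).1 (hcom i j h')
      · have e : CoxeterMatrix.A 5 i j = 3 := by
          show (if i = j then 1 else if (j : ℕ) + 1 = i ∨ (i : ℕ) + 1 = j then 3 else 2) = 3
          rw [if_neg (fun e => by rw [e] at h; omega), if_pos (by omega)]
        rw [e]; exact ts_cube hT (hfD i) (hfD j) (hnc i j (by omega))
    · obtain rfl := Fin.ext h
      rw [CoxeterMatrix.diagonal, pow_one, ts_mul_self hT (hfD i)]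
    · rcases Nat.lt_or_ge ((j : ℕ) + 1) i with h' | h'
      · have e : CoxeterMatrix.A 5 i j = 2 := by
          show (if i = j then 1 else if (j : ℕ) + 1 = i ∨ (i : ℕ) + 1 = j then 3 else 2) = 2
          rw [if_neg (fun e => by rw [e] at h; omega), if_neg (by omega)]
        rw [e]; exact (invol_commute_iff (ts_invol hT (hfD i)) (ts_invol hT (hfD j))).1 (hcom j i h').symm
      · have e : CoxeterMatrix.A 5 i j = 3 := by
          show (if i = j then 1 else if (j : ℕ) + 1 = i ∨ (i : ℕ) + 1 = j then 3 else 2) = 3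
          rw [if_neg (fun e => by rw [e] at h; omega), if_pos (by omega)]
        rw [e]; exact ts_cube hT (hfD i) (hfD j) fun hc => hnc j i (by omega) hc.symm
  obtain ⟨cs, -⟩ := Cfsg.Agent.S2530.result 5
  set φ : Equiv.Perm (Fin 6) →* G := cs.lift ⟨f, hrel⟩ with hφ
  have hφi : ∀ i, φ (cs.simple i) = f i := fun i => cs.lift_apply_simple hrel i
  have hmem : ∀ i, f i ∈ φ.range := fun i => ⟨_, hφi i⟩
  have hsurj : Function.Surjective φ := by
    rw [← MonoidHom.range_eq_top]
    obtain ⟨ht1, ht2, ht3⟩ := C.third hH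
    refine eq_top_of_lines hH C.hx C.hy C.hc C.hcx (hn x C.hx c C.hc C.hcx) ⟨1, rfl⟩ (hmem 0) ?_ (hmem 1)
      (T := {y, u}) ?_ ?_ ?_
    · intro w hw
      rw [hline] at hw
      rcases hw with rfl | rfl | rfl
      exacts [hmem 0, hmem 4, hmem 2]
    · rintro w (rfl | rfl)
      exacts [⟨C.hy, hmem 4⟩, ⟨C.hu, hmem 3⟩]
    · rintro w (rfl | rfl) w' (rfl | rfl) hne
      exacts [absurd rfl hne, C.hyu, fun h => C.hyu h.symm, absurd rfl hne]
    · rw [Set.ncard_pair (fun e : y = u => C.hyu (e ▸ Commute.refl y))]; norm_num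
  haveI : IsSimpleGroup (alternatingGroup (Fin 6)) := alternatingGroup.isSimpleGroup (by simp)
  have hinj : Function.Injective φ := by
    rw [← MonoidHom.ker_eq_bot_iff]
    rcases IsSimpleGroup.eq_bot_or_eq_top_of_normal (φ.ker.subgroupOf (alternatingGroup (Fin 6))) inferInstance
      with h | h
    · refine le_bot_iff.1 fun g hg => ?_
      have hz : g ∈ Subgroup.center (Equiv.Perm (Fin 6)) := by
        refine Subgroup.mem_center_iff.2 fun k => commutatorElement_eq_one_iff_mul_comm.1 ?_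
        have hker : ⁅k, g⁆ ∈ φ.ker := by
          rw [MonoidHom.mem_ker, map_commutatorElement, MonoidHom.mem_ker.1 hg, commutatorElement_one_right]
        have halt : ⁅k, g⁆ ∈ alternatingGroup (Fin 6) := by
          rw [Equiv.Perm.mem_alternatingGroup, map_commutatorElement]
          exact commutatorElement_eq_one_iff_mul_comm.2 (mul_comm _ _)
        have := (h.le (show (⟨_, halt⟩ : alternatingGroup (Fin 6)) ∈ φ.ker.subgroupOf _ from hker))
        exact congrArg Subtype.val (Subgroup.mem_bot.1 this)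
      rw [Subgroup.mem_bot]
      have hall : ∀ k : Equiv.Perm (Fin 6), k * g = g * k := fun k => Subgroup.mem_center_iff.1 hz k
      have key : ∀ g : Equiv.Perm (Fin 6), (∀ i : Fin 6, ∀ j : Fin 6,
          Equiv.swap i j * g = g * Equiv.swap i j) → g = 1 := by
        intro g hg
        refine Equiv.ext fun i => ?_
        by_contra hne'
        have hne : g i ≠ i := hne'
        obtain ⟨j, hj1, hj2⟩ := (by decide : ∀ a b : Fin 6, ∃ j, j ≠ a ∧ j ≠ b) i (g i)
        have h := congrArg (fun p : Equiv.Perm (Fin 6) => p i) (hg i j)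
        simp only [Equiv.Perm.mul_apply, Equiv.swap_apply_left] at h
        rw [Equiv.swap_apply_of_ne_of_ne hne hj2.symm] at h
        exact hj1 (g.injective h).symm
      exact key g fun i j => hall _
    · exfalso
      have hsig : Equiv.Perm.sign (cs.simple 0) = Equiv.Perm.sign (cs.simple 1) := by
        obtain ⟨cs', hcs'⟩ := Cfsg.Agent.S2530.result 5
        have hconj : IsConj (cs.simple 0) (cs.simple 1) := by
          refine isConj_iff.2 ⟨cs.simple 0 * cs.simple 1, ?_⟩
          have e := cs.simple_mul_simple_pow 0 1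
          rw [show CoxeterMatrix.A 5 0 1 = 3 from by decide] at e
          rw [mul_inv_rev, cs.inv_simple, cs.inv_simple]
          have h2 : cs.simple 0 * cs.simple 1 * cs.simple 0 * (cs.simple 1 * cs.simple 0) * cs.simple 1 = 1 := by
            simpa [pow_succ, mul_assoc] using e
          calc cs.simple 0 * cs.simple 1 * cs.simple 0 * (cs.simple 1 * cs.simple 0)
              = (cs.simple 1)⁻¹ := eq_inv_of_mul_eq_one_left h2
            _ = cs.simple 1 := cs.inv_simple 1
        obtain ⟨k, hk⟩ := isConj_iff.1 hconj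
        rw [← hk, map_mul, map_mul, map_inv, mul_comm (Equiv.Perm.sign k), mul_inv_cancel_right]
      have halt : cs.simple 0 * cs.simple 1 ∈ alternatingGroup (Fin 6) := by
        rw [Equiv.Perm.mem_alternatingGroup, map_mul, hsig, Int.units_mul_self]
      have h1 : φ (cs.simple 0 * cs.simple 1) = 1 := MonoidHom.mem_ker.1
        (h.ge (Subgroup.mem_top (⟨_, halt⟩ : alternatingGroup (Fin 6))))
      rw [map_mul, hφi, hφi] at h1
      refine hnc 0 1 rfl ?_
      have h2 : f 1 = (f 0)⁻¹ := eq_inv_of_mul_eq_one_right h1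
      rw [h2]; exact (Commute.refl _).inv_right
  exact ⟨(MulEquiv.ofBijective φ ⟨hinj, hsurj⟩).symm⟩

/-- The five members of a line. -/
theorem five_line [Finite G] {x y : G} (hx : x ∈ D) (hy : y ∈ nb D x) (h5 : (line D x y).ncard = 5) :
    ∃ z : Fin 3 → G, Function.Injective z ∧ (∀ i, z i ∈ line D x y ∧ z i ≠ x ∧ z i ≠ y) ∧
      ∀ w ∈ line D x y, w = x ∨ w = y ∨ ∃ i, w = z i := by
  classical
  have hsub : ({x, y} : Set G) ⊆ line D x y := by
    rintro w (rfl | rfl)
    exacts [left_mem_line hx hy, right_mem_line hy]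
  have h3 : (line D x y \ {x, y}).ncard = 3 := by rw [Set.ncard_sdiff hsub, h5, Set.ncard_pair hy.2.1.symm]
  obtain ⟨a, b, c, hab, hac, hbc, habc⟩ := Set.ncard_eq_three.1 h3
  have hmem : ∀ w, w ∈ ({a, b, c} : Set G) ↔ w ∈ line D x y ∧ w ≠ x ∧ w ≠ y := fun w => by
    rw [← habc, Set.mem_sdiff, Set.mem_insert_iff, Set.mem_singleton_iff, not_or]
  refine ⟨![a, b, c], ?_, fun i => (hmem _).1 (by fin_cases i <;> simp), fun w hw => ?_⟩
  · intro i j e
    fin_cases i <;> fin_cases j <;> first | rfl | exact absurd e (by simp [hab, hac, hbc, hab.symm, hac.symm, hbc.symm])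
  · by_cases h1 : w = x
    · exact Or.inl h1
    by_cases h2 : w = y
    · exact Or.inr (Or.inl h2)
    refine Or.inr (Or.inr ?_)
    rcases (hmem w).2 ⟨hw, h1, h2⟩ with h | h | h
    exacts [⟨0, h⟩, ⟨1, h⟩, ⟨2, h⟩]

omit hH in
theorem pairW_prod (hT : IsThreeTranspositionSet D) {f : Fin 8 → G} {sel : List (Fin 8)}
    (hf : ∀ a ∈ sel, f a ∈ D)
    (h2 : ∀ a ∈ sel, ∀ b ∈ sel, a < b → (a, b) ∉ ncPairs → (b, a) ∉ ncPairs → Commute (f a) (f b))
    (h3 : ∀ p ∈ ncPairs, p.1 ∈ sel → p.2 ∈ sel → ¬ Commute (f p.1) (f p.2)) :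
    ∀ w ∈ pairWs sel, (w.map f).prod = 1 := by
  intro w hw
  simp only [pairWs, List.mem_flatMap, List.mem_map, List.mem_filter, decide_eq_true_eq] at hw
  obtain ⟨a, ha, b, ⟨hb, hab⟩, rfl⟩ := hw
  rw [pairW, CfsgLib.PresCert.prod_map_replicate_pair]
  split
  · rename_i h
    rcases h with h | h
    · exact ts_cube hT (hf a ha) (hf b hb) (h3 _ h ha hb)
    · exact ts_cube hT (hf a ha) (hf b hb) fun hc => h3 _ h hb ha hc.symm
  · rename_i h
    rw [not_or] at h
    exact (invol_commute_iff (ts_invol hT (hf a ha)) (ts_invol hT (hf b hb))).1 (h2 a ha b hb hab h.1 h.2)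

/-- Lines of five members, three lines through a member: generators. -/
theorem frame_three [Finite G] (hL : ∀ x ∈ D, ∀ y ∈ nb D x, (line D x y).ncard = 5)
    (hn : ∀ x ∈ D, ∀ v ∈ D, ¬ Commute x v → (both D x v).ncard = 3) :
    ∃ f : Fin 8 → G, (∀ a, f a ∈ D) ∧ (∀ w ∈ known3, (w.map f).prod = 1) ∧
      Subgroup.closure (Set.range f) = ⊤ ∧ f 7 = f 0 := by
  classical
  have hT := hH.cls.ts
  obtain ⟨x, y, u, c, C⟩ := exists_conf hH hn le_rfl
  obtain ⟨z, hzi, hz, hzall⟩ := five_line hH C.hx C.hy (hL x C.hx y C.hy)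
  let f : Fin 8 → G := ![x, y, z 0, z 1, z 2, u, c, x]
  have hfz := fun i => C.facts hH (hz i).1 (hz i).2.1
  have hfD : ∀ a, f a ∈ D := by
    intro a; fin_cases a
    exacts [C.hx, C.hy.1, (hfz 0).1.1, (hfz 1).1.1, (hfz 2).1.1, C.hu.1, C.hc, C.hx]
  have hclique : ∀ i j, Commute (z i) (z j) := fun i j => line_clique (hz i).1 (hz j).1
  have hyz : ∀ i, Commute y (z i) := fun i => line_clique (right_mem_line C.hy) (hz i).1
  have hxz : ∀ i, Commute x (z i) := fun i => (hfz i).1.2.2
  have hP : x * y * z 0 * z 1 * z 2 = 1 := by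
    refine line_product hH C.hx C.hy (hL x C.hx y C.hy) ?_ (hz 0).2.2.symm (hz 1).2.2.symm (hz 2).2.2.symm
      (fun e => absurd (hzi e) (by decide)) (fun e => absurd (hzi e) (by decide))
      (fun e => absurd (hzi e) (by decide)) C.hy.2.1.symm (hz 0).2.1.symm (hz 1).2.1.symm (hz 2).2.1.symm
    ext w
    constructor
    · intro hw
      rcases hzall w hw with h | h | ⟨i, h⟩
      · simp [h]
      · simp [h]
      · fin_cases i <;> simp [h]
    · rintro (rfl | rfl | rfl | rfl | rfl)
      exacts [left_mem_line C.hx C.hy, right_mem_line C.hy, (hz 0).1, (hz 1).1, (hz 2).1]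
  refine ⟨f, hfD, ?_, ?_, rfl⟩
  · intro w hw
    rcases List.mem_append.1 hw with hw | hw
    · refine pairW_prod hT (sel := [0, 1, 2, 3, 4, 5, 6]) (fun a _ => hfD a) ?_ ?_ w hw
      · intro a ha b hb hab h1 h2
        fin_cases a <;> fin_cases b <;>
          first
            | exact absurd hab (by decide)
            | exact absurd ha (by decide)
            | exact absurd hb (by decide)
            | exact absurd h2 (by decide)
            | exact absurd h1 (by decide)
            | exact C.hy.2.2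
            | exact C.hu.2.2
            | exact hxz _
            | exact hyz _
            | exact hclique _ _
            | exact C.hcy.symm
            | exact C.hcu.symm
      · intro p hp h1 h2
        simp only [ncPairs, List.mem_cons, List.not_mem_nil, or_false] at hp
        rcases hp with rfl | rfl | rfl | rfl | rfl | rfl | rfl | rfl | rfl | rfl | rfl | rfl | rfl
        exacts [fun h => C.hyu h.symm, fun h => (hfz 0).2.1 h.symm, fun h => (hfz 1).2.1 h.symm,
          fun h => (hfz 2).2.1 h.symm, fun h => C.hcx h.symm, (hfz 0).2.2 (hz 0).2.2, (hfz 1).2.2 (hz 1).2.2,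
          (hfz 2).2.2 (hz 2).2.2, absurd h1 (by decide), absurd h1 (by decide), absurd h1 (by decide),
          absurd h1 (by decide), absurd h1 (by decide)]
    · simp only [List.mem_singleton] at hw
      subst hw
      show x * (y * (z 0 * (z 1 * (z 2 * 1)))) = 1
      simpa [mul_assoc] using hP
  · have hmem : ∀ a, f a ∈ Subgroup.closure (Set.range f) := fun a => Subgroup.subset_closure ⟨a, rfl⟩
    refine eq_top_of_lines hH C.hx C.hy C.hc C.hcx (hn x C.hx c C.hc C.hcx) ⟨1, rfl⟩ (hmem 0) ?_ (hmem 6)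
      (T := {y, u}) ?_ ?_ ?_
    · intro w hw
      rcases hzall w hw with rfl | rfl | ⟨i, rfl⟩
      · exact hmem 0
      · exact hmem 1
      · fin_cases i
        exacts [hmem 2, hmem 3, hmem 4]
    · rintro w (rfl | rfl)
      exacts [⟨C.hy, hmem 1⟩, ⟨C.hu, hmem 5⟩]
    · rintro w (rfl | rfl) w' (rfl | rfl) hne
      exacts [absurd rfl hne, C.hyu, fun h => C.hyu h.symm, absurd rfl hne]
    · rw [Set.ncard_pair (fun e : y = u => C.hyu (e ▸ Commute.refl y))]; norm_num

/-- Lines of five members, nine lines through a member: generators, up to the three kinds of matching. -/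
theorem frame_nine [Finite G] (hL : ∀ x ∈ D, ∀ y ∈ nb D x, (line D x y).ncard = 5)
    (hn : ∀ x ∈ D, ∀ v ∈ D, ¬ Commute x v → (both D x v).ncard = 9) :
    ∃ f : Fin 8 → G, (∀ a, f a ∈ D) ∧ Subgroup.closure (Set.range f) = ⊤ ∧ (∀ a, a ≠ 6 → Commute (f 0) (f a)) ∧
      ((∀ w ∈ known9 2 3 4, (w.map f).prod = 1) ∨ (∀ w ∈ known9 2 4 3, (w.map f).prod = 1) ∨
        ∀ w ∈ known9 3 4 2, (w.map f).prod = 1) := by
  classical
  have hT := hH.cls.ts
  have hconj := hH.cls.conj
  obtain ⟨x, y, u, c, C⟩ := exists_conf hH hn (by norm_num)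
  obtain ⟨z, hzi, hz, hzall⟩ := five_line hH C.hx C.hy (hL x C.hx y C.hy)
  have hfz := fun i => C.facts hH (hz i).1 (hz i).2.1
  obtain ⟨ht1, ht2, ht3⟩ := C.third hH
  -- a fourth line
  have hpy : ∀ r ∈ nb D x, ∀ w ∈ line D x r, w ≠ x → w ∈ nb D x :=
    fun r hr w hw hwx => line_pair hH C.hx hr (left_mem_line C.hx hr) hw hwx.symm
  set U : Set G := (line D x y \ {x}) ∪ ((line D x u \ {x}) ∪ (line D x (y * u * y) \ {x})) with hU
  obtain ⟨w₀, hw₀, hw₀U⟩ : ∃ w₀ ∈ nb D x, w₀ ∉ U := by
    by_contra h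
    push Not at h
    have hcard : (nb D x).ncard ≤ U.ncard := Set.ncard_le_ncard h (Set.toFinite _)
    have h12 : U.ncard ≤ 12 := by
      refine (Set.ncard_union_le _ _).trans ?_
      refine (Nat.add_le_add_left (Set.ncard_union_le _ _) _).trans ?_
      rw [Set.ncard_sdiff_singleton_of_mem (left_mem_line C.hx C.hy), hL x C.hx y C.hy,
        Set.ncard_sdiff_singleton_of_mem (left_mem_line C.hx C.hu), hL x C.hx u C.hu,
        Set.ncard_sdiff_singleton_of_mem (left_mem_line C.hx ht1), hL x C.hx _ ht1]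
    obtain ⟨L, n, hLc, hn', hk, -, -⟩ := params hH
    rw [hk x C.hx, ← hn' x C.hx c C.hc C.hcx, hn x C.hx c C.hc C.hcx, ← hLc x C.hx y C.hy,
      hL x C.hx y C.hy] at hcard
    omega
  obtain ⟨w, hw, hcw⟩ := exists_meet hH C.hx hw₀ C.hc
  have hwx : w ≠ x := fun e => C.hcx (by rw [e] at hcw; exact hcw.symm)
  have hwnb : w ∈ nb D x := hpy w₀ hw₀ w hw hwx
  have hwline : ∀ r ∈ nb D x, w₀ ∉ line D x r \ {x} → ¬ Commute r w := by
    intro r hr hout hc
    refine hout ⟨?_, hw₀.2.1⟩
    have h1 := tri hH C.hx hr hwnb.1 hwnb.2.2.symm hc.symm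
    rw [← (line_eq hH C.hx hr (left_mem_line C.hx hr) h1 hwx.symm).2,
      (line_eq hH C.hx hw₀ (left_mem_line C.hx hw₀) hw hwx.symm).2]
    exact right_mem_line hw₀
  have hyw : ¬ Commute y w := hwline y C.hy fun h => hw₀U (Or.inl h)
  have huw : ¬ Commute u w := hwline u C.hu fun h => hw₀U (Or.inr (Or.inl h))
  have htw : ¬ Commute (y * u * y) w := hwline _ ht1 fun h => hw₀U (Or.inr (Or.inr h))
  have hzw : ∀ i, ¬ Commute (z i) w := fun i => hwline _ (hfz i).1 fun h => hw₀U (Or.inl (by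
    rw [(line_eq hH C.hx C.hy (left_mem_line C.hx C.hy) (hz i).1 (hz i).2.1.symm).2] at h
    exact h))
  -- translations on the third block
  have hyK : y ∈ line D x y \ {x} := ⟨right_mem_line C.hy, C.hy.2.1⟩
  have huK : u ∈ line D x u \ {x} := ⟨right_mem_line C.hu, C.hu.2.1⟩
  have hwK : w ∈ line D x w \ {x} := ⟨right_mem_line hwnb, hwnb.2.1⟩
  have hy_u : y ∉ line D x u := fun h => C.hyu (line_clique h (right_mem_line C.hu))
  have hy_w : y ∉ line D x w := fun h => hyw (line_clique h (right_mem_line hwnb))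
  have hu_w : u ∉ line D x w := fun h => huw (line_clique h (right_mem_line hwnb))
  have hzK : ∀ i, z i ∈ line D x y \ {x} := fun i => ⟨(hz i).1, (hz i).2.1⟩
  let uj : Fin 3 → G := fun i => act (y * z i) u
  have hujK : ∀ i, uj i ∈ line D x u \ {x} ∧ uj i ≠ u := fun i =>
    ⟨(act_line hH C.hx C.hu C.hy hy_u huK hyK (hzK i)).1,
      (act_line hH C.hx C.hu C.hy hy_u huK hyK (hzK i)).2 (hz i).2.2.symm⟩
  have hmatch : ∀ i, ∃ k, act (u * uj i) w = act (y * z k) w := by
    intro i
    obtain ⟨h1, h2⟩ := act_line hH C.hx hwnb C.hu hu_w hwK huK (hujK i).1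
    obtain ⟨t, ht, hte⟩ := tr_exists hH C.hx hwnb C.hy hy_w hwK h1
    rcases hzall t ht.1 with h | h | ⟨k, h⟩
    · exact absurd h ht.2
    · exfalso
      refine h2 (hujK i).2.symm ?_
      rw [← hte, h, ts_mul_self hT C.hy.1]; simp [act]
    · exact ⟨k, by rw [← hte, h]⟩
  choose s hs using hmatch
  have hsinj : Function.Injective s := by
    intro i i' e
    have h1 : act (u * uj i) w = act (u * uj i') w := by rw [hs, hs, e]
    have h2 : uj i = uj i' := tr_inj hH C.hx hwnb C.hu hu_w hwK (hujK i).1 (hujK i').1 h1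
    exact hzi (tr_inj hH C.hx C.hu C.hy hy_u huK (hzK i) (hzK i') h2)
  set σ : Equiv.Perm (Fin 3) := Equiv.ofBijective s (Finite.injective_iff_bijective.1 hsinj) with hσ
  obtain ⟨π, hπ⟩ : ∃ π : Equiv.Perm (Fin 3), π⁻¹ * σ * π = 1 ∨ π⁻¹ * σ * π = Equiv.swap 1 2 ∨
      π⁻¹ * σ * π = finRotate 3 := by
    have key : ∀ τ : Equiv.Perm (Fin 3), ∃ π : Equiv.Perm (Fin 3), π⁻¹ * τ * π = 1 ∨
        π⁻¹ * τ * π = Equiv.swap 1 2 ∨ π⁻¹ * τ * π = finRotate 3 := by decide +kernel
    exact key σ
  let f : Fin 8 → G := ![x, y, z (π 0), z (π 1), z (π 2), u, c, w]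
  have hfD : ∀ a, f a ∈ D := by
    intro a; fin_cases a
    exacts [C.hx, C.hy.1, (hfz _).1.1, (hfz _).1.1, (hfz _).1.1, C.hu.1, C.hc, hwnb.1]
  have hcl : ∀ a, f a ∈ Subgroup.closure (Set.range f) := fun a => Subgroup.subset_closure ⟨a, rfl⟩
  have hfπ : ∀ i, ∃ a, z i = f a := by
    intro i
    obtain ⟨j, rfl⟩ := π.surjective i
    fin_cases j
    exacts [⟨2, rfl⟩, ⟨3, rfl⟩, ⟨4, rfl⟩]
  refine ⟨f, hfD, ?_, ?_, ?_⟩
  · refine eq_top_of_lines hH C.hx C.hy C.hc C.hcx (hn x C.hx c C.hc C.hcx) ⟨2, rfl⟩ (hcl 0) ?_ (hcl 6)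
      (T := {y, u, y * u * y, w}) ?_ ?_ ?_
    · intro t ht
      rcases hzall t ht with rfl | rfl | ⟨i, rfl⟩
      · exact hcl 0
      · exact hcl 1
      · obtain ⟨a, ha⟩ := hfπ i
        rw [ha]; exact hcl a
    · rintro t (rfl | rfl | rfl | rfl)
      exacts [⟨C.hy, hcl 1⟩, ⟨C.hu, hcl 5⟩, ⟨ht1, mul_mem (mul_mem (hcl 1) (hcl 5)) (hcl 1)⟩, ⟨hwnb, hcl 7⟩]
    · rintro t (rfl | rfl | rfl | rfl) t' (rfl | rfl | rfl | rfl) hne
      exacts [absurd rfl hne, C.hyu, ht2, hyw, fun h => C.hyu h.symm, absurd rfl hne, ht3, huw,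
        fun h => ht2 h.symm, fun h => ht3 h.symm, absurd rfl hne, htw, fun h => hyw h.symm, fun h => huw h.symm,
        fun h => htw h.symm, absurd rfl hne]
    · have h4 : ({y, u, y * u * y, w} : Set G).ncard = 4 := by
        have n1 : u ∉ ({y * u * y, w} : Set G) := by
          rintro (e | e)
          · exact ht3 (e ▸ Commute.refl _)
          · exact huw (e ▸ Commute.refl _)
        have n2 : y ∉ ({u, y * u * y, w} : Set G) := by
          rintro (e | e | e)
          · exact C.hyu (e ▸ Commute.refl _)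
          · exact ht2 (e ▸ Commute.refl _)
          · exact hyw (e ▸ Commute.refl _)
        rw [Set.ncard_insert_of_notMem n2 (Set.toFinite _), Set.ncard_insert_of_notMem n1 (Set.toFinite _),
          Set.ncard_pair (fun e : y * u * y = w => htw (e ▸ Commute.refl _))]
      rw [h4]; norm_num
  · intro a ha
    fin_cases a
    exacts [Commute.refl _, C.hy.2.2, (hfz _).1.2.2, (hfz _).1.2.2, (hfz _).1.2.2, C.hu.2.2, absurd rfl ha,
      hwnb.2.2]
  have hrels : ∀ w' ∈ pairWs (List.finRange 8) ++ [lineW, triW], (w'.map f).prod = 1 := by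
    intro w' hw'
    rcases List.mem_append.1 hw' with hw' | hw'
    · refine pairW_prod hT (fun a _ => hfD a) ?_ ?_ w' hw'
      · intro a _ b _ hab h1 h2
        fin_cases a <;> fin_cases b <;>
          first
            | exact absurd hab (by decide)
            | exact absurd h2 (by decide)
            | exact absurd h1 (by decide)
            | exact C.hy.2.2
            | exact C.hu.2.2
            | exact hwnb.2.2
            | exact (hfz _).1.2.2
            | exact line_clique (right_mem_line C.hy) (hz _).1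
            | exact line_clique (hz _).1 (hz _).1
            | exact C.hcy.symm
            | exact C.hcu.symm
            | exact hcw
      · intro p hp _ _
        simp only [ncPairs, List.mem_cons, List.not_mem_nil, or_false] at hp
        rcases hp with rfl | rfl | rfl | rfl | rfl | rfl | rfl | rfl | rfl | rfl | rfl | rfl | rfl
        exacts [fun h => C.hyu h.symm, fun h => (hfz _).2.1 h.symm, fun h => (hfz _).2.1 h.symm,
          fun h => (hfz _).2.1 h.symm, fun h => C.hcx h.symm, (hfz _).2.2 (hz _).2.2, (hfz _).2.2 (hz _).2.2,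
          (hfz _).2.2 (hz _).2.2, fun h => hyw h.symm, fun h => hzw _ h.symm, fun h => hzw _ h.symm,
          fun h => hzw _ h.symm, fun h => huw h.symm]
    · simp only [List.mem_cons, List.not_mem_nil, or_false] at hw'
      rcases hw' with rfl | rfl
      · have hπne : ∀ i j : Fin 3, i ≠ j → z (π i) ≠ z (π j) := fun i j h e => h (π.injective (hzi e))
        have hP : x * y * z (π 0) * z (π 1) * z (π 2) = 1 := by
          refine line_product hH C.hx C.hy (hL x C.hx y C.hy) ?_ (hz _).2.2.symm (hz _).2.2.symm (hz _).2.2.symm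
            (hπne 0 1 (by decide)) (hπne 0 2 (by decide)) (hπne 1 2 (by decide))
            C.hy.2.1.symm (hz _).2.1.symm (hz _).2.1.symm (hz _).2.1.symm
          ext t
          constructor
          · intro ht
            rcases hzall t ht with h | h | ⟨i, h⟩
            · simp [h]
            · simp [h]
            · obtain ⟨j, rfl⟩ := π.surjective i
              fin_cases j <;> simp [h]
          · rintro (rfl | rfl | rfl | rfl | rfl)
            exacts [left_mem_line C.hx C.hy, right_mem_line C.hy, (hz _).1, (hz _).1, (hz _).1]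
        show x * (y * (z (π 0) * (z (π 1) * (z (π 2) * 1)))) = 1
        simpa [mul_assoc] using hP
      · show y * (u * (y * (w * (y * (u * (y * (w * (y * (u * (y * (w * 1))))))))))) = 1
        have h := ts_cube hT ht1.1 hwnb.1 htw
        simpa [pow_succ, mul_assoc] using h
  have hlet : ∀ j : Fin 3, f ⟨(j : ℕ) + 2, by omega⟩ = z (π j) := by intro j; fin_cases j <;> rfl
  have hR : ∀ j : Fin 3, ((matchW ⟨(j : ℕ) + 2, by omega⟩
      ⟨(((π⁻¹ * σ * π) j : Fin 3) : ℕ) + 2, by omega⟩).map f).prod = 1 := by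
    intro j
    have e := hs (π j)
    have hk : z (π ((π⁻¹ * σ * π) j)) = z (s (π j)) := by simp [hσ]
    simp only [matchW, List.map_cons, List.map_nil, List.prod_cons, List.prod_nil, hlet, hk]
    show u * (y * (z (π j) * (u * (z (π j) * (y * (w * (y * (z (π j) * (u * (z (π j) * (y * (u *
      (y * (z (s (π j)) * (w * (z (s (π j)) * (y * 1))))))))))))))))) = 1
    have hiy := ts_inv hT C.hy.1
    have hia : (z (π j))⁻¹ = z (π j) := ts_inv hT (hfz _).1.1
    have hib : (z (s (π j)))⁻¹ = z (s (π j)) := ts_inv hT (hfz _).1.1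
    have hiu := ts_inv hT C.hu.1
    have hsq : act (u * uj (π j)) w * act (u * uj (π j)) w = 1 := ts_mul_self hT (hconj _ w hwnb.1)
    conv_lhs at hsq => arg 2; rw [e]
    simp only [uj, act, mul_inv_rev, hiy, hia, hib, hiu, mul_assoc] at hsq
    simpa [mul_assoc] using hsq
  have hmk : ∀ k₂ k₃ k₄ : Fin 8,
      (((π⁻¹ * σ * π) 0 : Fin 3) : ℕ) + 2 = k₂ → (((π⁻¹ * σ * π) 1 : Fin 3) : ℕ) + 2 = k₃ →
        (((π⁻¹ * σ * π) 2 : Fin 3) : ℕ) + 2 = k₄ → ∀ w' ∈ known9 k₂ k₃ k₄, (w'.map f).prod = 1 := by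
    intro k₂ k₃ k₄ e2 e3 e4 w' hw'
    rw [known9, show [lineW, triW, matchW 2 k₂, matchW 3 k₃, matchW 4 k₄] =
      [lineW, triW] ++ [matchW 2 k₂, matchW 3 k₃, matchW 4 k₄] from rfl, ← List.append_assoc] at hw'
    rcases List.mem_append.1 hw' with h | h
    · exact hrels w' h
    · simp only [List.mem_cons, List.not_mem_nil, or_false] at h
      rcases h with rfl | rfl | rfl
      · have := hR 0; rwa [show (⟨_, by omega⟩ : Fin 8) = k₂ from Fin.ext e2] at this
      · have := hR 1; rwa [show (⟨_, by omega⟩ : Fin 8) = k₃ from Fin.ext e3] at this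
      · have := hR 2; rwa [show (⟨_, by omega⟩ : Fin 8) = k₄ from Fin.ext e4] at this
  rcases hπ with h | h | h
  · exact Or.inl (hmk 2 3 4 (by rw [h]; rfl) (by rw [h]; rfl) (by rw [h]; rfl))
  · exact Or.inr (Or.inl (hmk 2 4 3 (by rw [h]; rfl) (by rw [h]; rfl) (by rw [h]; rfl)))
  · exact Or.inr (Or.inr (hmk 3 4 2 (by rw [h]; rfl) (by rw [h]; rfl) (by rw [h]; rfl)))

end CfsgLib.ThreeTransp.SolvLocal
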