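import Cfsg.Agent.Lib.ThreeTransp.SolvLocal.Count

/-!
Generating transpositions and their relations.
-/

set_option autoImplicit false
set_option linter.unusedSectionVars false
set_option linter.style.haveILetI false

namespace CfsgLib.ThreeTransp.SolvLocal

open Cfsg CfsgLib.Involutions CfsgLib.ThreeTransp

universe u

variable {G : Type u} [Group G] {D : Set G}

/-- The pairs of letters with product of order three. -/
def ncPairs : List (Fin 8 × Fin 8) :=
  [(5, 1), (5, 2), (5, 3), (5, 4), (6, 0), (6, 2), (6, 3), (6, 4), (7, 1), (7, 2), (7, 3), (7, 4), (7, 5)]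

/-- The word of a pair of letters. -/
def pairW (a b : Fin 8) : List (Fin 8) :=
  (List.replicate (if (a, b) ∈ ncPairs ∨ (b, a) ∈ ncPairs then 3 else 2) [a, b]).flatten

/-- The pair words among the given letters. -/
def pairWs (sel : List (Fin 8)) : List (List (Fin 8)) :=
  sel.flatMap fun a => (sel.filter fun b => decide (a < b)).map fun b => pairW a b

/-- The word of the five members of a line. -/
def lineW : List (Fin 8) := [0, 1, 2, 3, 4]

/-- The word of a plane of three lines. -/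
def triW : List (Fin 8) := [1, 5, 1, 7, 1, 5, 1, 7, 1, 5, 1, 7]

/-- The word matching two translations on a third block. -/
def matchW (j k : Fin 8) : List (Fin 8) :=
  [5, 1, j, 5, j, 1, 7, 1, j, 5, j, 1, 5, 1, k, 7, k, 1]

/-- The relators for nine lines. -/
def known9 (k₂ k₃ k₄ : Fin 8) : List (List (Fin 8)) :=
  pairWs (List.finRange 8) ++ [lineW, triW, matchW 2 k₂, matchW 3 k₃, matchW 4 k₄]

/-- The relators for three lines. -/
def known3 : List (List (Fin 8)) := pairWs [0, 1, 2, 3, 4, 5, 6] ++ [lineW]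

variable (hH : Hyp D)
include hH

theorem tr_inj [Finite G] {p q u : G} (hp : p ∈ D) (hq : q ∈ nb D p) (hu : u ∈ nb D p)
    (hne : u ∉ line D p q) {a w z z' : G} (hw : w ∈ line D p q \ {p}) (hz : z ∈ line D p u \ {p})
    (hz' : z' ∈ line D p u \ {p}) (e : act (a * z) w = act (a * z') w) : z = z' := by
  have hT := hH.cls.ts
  rw [← act_act, ← act_act] at e
  have e2 := act_inj e
  simp only [act, ts_inv hT (line_subset hz.1), ts_inv hT (line_subset hz'.1)] at e2
  rw [ts_braid hT (line_subset hz.1) (line_subset hw.1) (fun h => off_line hH hp hq hu hne hw hz h.symm),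
    ts_braid hT (line_subset hz'.1) (line_subset hw.1) (fun h => off_line hH hp hq hu hne hw hz' h.symm)] at e2
  exact mul_left_cancel (mul_right_cancel e2)

/-- The product of the members of a line of five. -/
theorem line_product [Finite G] {p q a b c d : G} (hp : p ∈ D) (hq : q ∈ nb D p)
    (h5 : (line D p q).ncard = 5) (hset : line D p q = {p, a, b, c, d}) (hab : a ≠ b) (hac : a ≠ c)
    (had : a ≠ d) (hbc : b ≠ c) (hbd : b ≠ d) (hcd : c ≠ d) (hpa : p ≠ a) (hpb : p ≠ b) (hpc : p ≠ c)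
    (hpd : p ≠ d) : p * a * b * c * d = 1 := by
  classical
  have hT := hH.cls.ts
  set L := line D p q with hL
  have hpL : p ∈ L := by rw [hset]; simp
  have haL : a ∈ L := by rw [hset]; simp
  have hbL : b ∈ L := by rw [hset]; simp
  have hcL : c ∈ L := by rw [hset]; simp
  have hdL : d ∈ L := by rw [hset]; simp
  have cm : ∀ {i j : G}, i ∈ L → j ∈ L → Commute i j := fun hi hj => line_clique hi hj
  have four : ∀ {r e₁ e₂ e₃ e₄ v : G}, L = {r, e₁, e₂, e₃, e₄} → e₁ ≠ e₂ → e₁ ≠ e₃ → e₁ ≠ e₄ → e₂ ≠ e₃ →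
      e₂ ≠ e₄ → e₃ ≠ e₄ → r ≠ e₁ → r ≠ e₂ → r ≠ e₃ → r ≠ e₄ → v ∈ D → v ∉ L → Commute v r →
      Commute (r * (e₁ * (e₂ * (e₃ * e₄)))) v := by
    intro r e₁ e₂ e₃ e₄ v hs h12 h13 h14 h23 h24 h34 hr1 hr2 hr3 hr4 hv hvL hvr
    have hrL : r ∈ L := by rw [hs]; simp
    have m1 : e₁ ∈ L := by rw [hs]; simp
    have m2 : e₂ ∈ L := by rw [hs]; simp
    have m3 : e₃ ∈ L := by rw [hs]; simp
    have m4 : e₄ ∈ L := by rw [hs]; simp
    have hr := line_subset hrL
    have hvn : v ∈ nb D r := ⟨hv, fun e => hvL (by rw [e]; exact hrL), hvr.symm⟩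
    have h1nb : e₁ ∈ nb D r := line_pair hH hp hq hrL m1 hr1
    have hK : line D r e₁ = L := (line_eq hH hp hq hrL m1 hr1).2
    have hne : e₁ ∉ line D r v := fun h => hvL (by
      rw [← hK, (line_eq hH hr hvn (left_mem_line hr hvn) h hr1).2]
      exact right_mem_line hvn)
    have hin : ∀ z ∈ L, z ≠ r → z ∈ line D r e₁ \ {r} := fun z hz hzr => ⟨hK.symm ▸ hz, hzr⟩
    have hvb : v ∈ line D r v \ {r} := ⟨right_mem_line hvn, hvn.2.1⟩
    obtain ⟨z, hz, hzz⟩ := tr_exists hH hr hvn h1nb hne hvb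
      (act_line hH hr hvn h1nb hne hvb (hin _ m2 hr2.symm) (hin _ m3 hr3.symm)).1
    have hzL : z ∈ L := hK ▸ hz.1
    have hz5 : z = r ∨ z = e₁ ∨ z = e₂ ∨ z = e₃ ∨ z = e₄ := by rw [hs] at hzL; simpa using hzL
    have hfix : ∀ i j, i ∈ L → j ∈ L → i ≠ r → j ≠ r → i ≠ j → act (i * j) v ≠ v := fun i j hi hj hir hjr hij =>
      (act_line hH hr hvn h1nb hne hvb (hin _ hi hir) (hin _ hj hjr)).2 hij
    have hprod : act (e₁ * z * (e₂ * e₃)) v = v := by
      have hsq : e₁ * z * (e₁ * z) = 1 := by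
        rw [(cm m1 hzL).eq, mul_assoc z e₁, ← (cm m1 hzL).eq, ← mul_assoc e₁ e₁,
          ts_mul_self hT (line_subset m1), one_mul, ts_mul_self hT (line_subset hzL)]
      rw [← act_act, ← hzz, act_act, hsq]; simp [act]
    have hk : z = e₄ := by
      rcases hz5 with e | e | e | e | e
      · exact absurd e hz.2
      · exfalso
        subst e
        rw [ts_mul_self hT (line_subset m1), one_mul] at hprod
        exact hfix _ _ m2 m3 hr2.symm hr3.symm h23 hprod
      · exfalso
        subst e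
        rw [show e₁ * z * (z * e₃) = e₁ * e₃ by
          rw [mul_assoc, ← mul_assoc z z, ts_mul_self hT (line_subset m2), one_mul]] at hprod
        exact hfix _ _ m1 m3 hr1.symm hr3.symm h13 hprod
      · exfalso
        subst e
        rw [show e₁ * z * (e₂ * z) = e₁ * e₂ by
          rw [(cm m2 m3).eq, mul_assoc, ← mul_assoc z z, ts_mul_self hT (line_subset m3), one_mul]] at hprod
        exact hfix _ _ m1 m2 hr1.symm hr2.symm h12 hprod
      · exact e
    subst hk
    refine Commute.mul_left hvr.symm ?_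
    have e : e₁ * (e₂ * (e₃ * z)) = e₁ * z * (e₂ * e₃) := by
      rw [← mul_assoc e₂, (((cm m2 m4).mul_left (cm m3 m4))).eq, mul_assoc e₁ z]
    rw [e]
    show e₁ * z * (e₂ * e₃) * v = v * (e₁ * z * (e₂ * e₃))
    have h := hprod
    unfold act at h
    conv_rhs => rw [← h]
    group
  have hcen : p * (a * (b * (c * d))) ∈ Subgroup.center G := by
    have hPc : ∀ v ∈ D, Commute (p * (a * (b * (c * d)))) v := by
      intro v hv
      by_cases hvL : v ∈ L
      · exact (cm hpL hvL).mul_left ((cm haL hvL).mul_left ((cm hbL hvL).mul_left ((cm hcL hvL).mul_left (cm hdL hvL))))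
      obtain ⟨r, hr, hvr⟩ := exists_meet hH hp hq hv
      rw [← hL, hset] at hr
      simp only [Set.mem_insert_iff, Set.mem_singleton_iff] at hr
      have comm2 : ∀ {i j r : G}, Commute i j → i * (j * r) = j * (i * r) := fun h => by
        rw [← mul_assoc, h.eq, mul_assoc]
      rcases hr with e | e | e | e | e <;> subst e
      · exact four hset hab hac had hbc hbd hcd hpa hpb hpc hpd hv hvL hvr
      · have := four (r := r) (e₁ := p) (e₂ := b) (e₃ := c) (e₄ := d) (by rw [hset, Set.insert_comm]) hpb hpc hpd hbc hbd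
          hcd hpa.symm hab hac had hv hvL hvr
        rwa [comm2 (cm haL hpL)] at this
      · have := four (r := r) (e₁ := p) (e₂ := a) (e₃ := c) (e₄ := d)
          (by rw [hset]; ext t; simp only [Set.mem_insert_iff, Set.mem_singleton_iff]; tauto)
          hpa hpc hpd hac had hcd hpb.symm hab.symm hbc hbd hv hvL hvr
        rwa [comm2 (cm hbL hpL), comm2 (cm hbL haL)] at this
      · have := four (r := r) (e₁ := p) (e₂ := a) (e₃ := b) (e₄ := d)
          (by rw [hset]; ext t; simp only [Set.mem_insert_iff, Set.mem_singleton_iff]; tauto)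
          hpa hpb hpd hab had hbd hpc.symm hac.symm hbc.symm hcd hv hvL hvr
        rwa [comm2 (cm hcL hpL), comm2 (cm hcL haL), comm2 (cm hcL hbL)] at this
      · have := four (r := r) (e₁ := p) (e₂ := a) (e₃ := b) (e₄ := c)
          (by rw [hset]; ext t; simp only [Set.mem_insert_iff, Set.mem_singleton_iff]; tauto)
          hpa hpb hpc hab hac hbc hpd.symm had.symm hbd.symm hcd.symm hv hvL hvr
        rwa [comm2 (cm hdL hpL), comm2 (cm hdL haL), comm2 (cm hdL hbL), (cm hdL hcL).eq] at this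
    rw [Subgroup.mem_center_iff]
    intro g
    have hle : Subgroup.closure D ≤ Subgroup.centralizer ({p * (a * (b * (c * d)))} : Set G) :=
      (Subgroup.closure_le _).2 fun v hv => Subgroup.mem_centralizer_singleton_iff.2 (hPc v hv).eq.symm
    exact Subgroup.mem_centralizer_singleton_iff.1 (hle (hH.cls.gen ▸ Subgroup.mem_top g))
  rw [hH.centre, Subgroup.mem_bot] at hcen
  simpa [mul_assoc] using hcen

/-- A subgroup with enough members of the lines at `x` and one more member is everything. -/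
theorem eq_top_of_lines [Finite G] {n : ℕ} {x y v : G} (hx : x ∈ D) (hy : y ∈ nb D x) (hv : v ∈ D)
    (hxv : ¬ Commute x v) (hn : (both D x v).ncard = n) (hpow : ∃ k, n = 3 ^ k) {K : Subgroup G} (hxK : x ∈ K)
    (hyK : ∀ z ∈ line D x y, z ∈ K) (hvK : v ∈ K) {T : Set G} (hT : ∀ z ∈ T, z ∈ nb D x ∧ z ∈ K)
    (hTp : ∀ z ∈ T, ∀ z' ∈ T, z ≠ z' → ¬ Commute z z') (hTn : n < 3 * T.ncard) : K = ⊤ := by
  classical
  have hTS := hH.cls.ts
  have hline : ∀ z ∈ nb D x, z ∈ K → ∀ z' ∈ line D x z, z' ∈ K := by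
    intro z hz hzK z' hz'
    by_cases hzx : z' = x
    · rwa [hzx]
    by_cases hzy : y ∈ line D x z
    · rw [← (line_eq hH hx hz (left_mem_line hx hz) hzy hy.2.1.symm).2] at hz'
      exact hyK z' hz'
    obtain ⟨t, ht, rfl⟩ := tr_exists hH hx hz hy hzy (w := z) (w' := z') ⟨right_mem_line hz, hz.2.1⟩ ⟨hz', hzx⟩
    exact mul_mem (mul_mem (mul_mem (hyK y (right_mem_line hy)) (hyK t ht.1)) hzK)
      (inv_mem (mul_mem (hyK y (right_mem_line hy)) (hyK t ht.1)))
  set M := {s | s ∈ both D x v ∧ s ∈ K} with hM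
  have hS2 : ∀ s ∈ both D x v, s ∈ nb D x := fun s hs =>
    ⟨hs.1, fun e => hxv (by rw [e] at hs; exact hs.2.2.symm), hs.2.1⟩
  have hnc : ∀ s ∈ both D x v, ∀ t ∈ both D x v, s ≠ t → ¬ Commute s t := by
    intro s hs t ht hst hc
    have h1 : t ∈ nb D s := ⟨ht.1, hst.symm, hc⟩
    exact hxv (line_clique (tri hH hs.1 h1 hx hs.2.1 ht.2.1) (tri hH hs.1 h1 hv hs.2.2 ht.2.2))
  have hmeet : ∀ z ∈ nb D x, ∃ s ∈ both D x v, s ∈ line D x z := by
    intro z hz
    obtain ⟨s, hs, hvs⟩ := exists_meet hH hx hz hv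
    exact ⟨s, ⟨line_subset hs, line_clique (left_mem_line hx hz) hs, hvs⟩, hs⟩
  choose! φ hφS hφL using hmeet
  have hMT : T.ncard ≤ M.ncard := by
    refine le_trans (le_of_eq (Set.InjOn.ncard_image (f := φ) ?_).symm) (Set.ncard_le_ncard ?_ (Set.toFinite _))
    · intro z hz z' hz' e
      by_contra hne
      obtain ⟨hz1, -⟩ := hT z hz
      obtain ⟨hz2, -⟩ := hT z' hz'
      have a1 := hφL z hz1
      have a2 := hφL z' hz2
      rw [← e] at a2
      have b1 := (line_eq hH hx hz1 (left_mem_line hx hz1) a1 (hS2 _ (hφS z hz1)).2.1.symm).2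
      have b2 := (line_eq hH hx hz2 (left_mem_line hx hz2) a2 (hS2 _ (hφS z hz1)).2.1.symm).2
      exact hTp z hz z' hz' hne (line_clique (right_mem_line hz1) (b1 ▸ b2.symm ▸ right_mem_line hz2))
    · rintro _ ⟨z, hz, rfl⟩
      obtain ⟨hz1, hzK⟩ := hT z hz
      exact ⟨hφS z hz1, hline z hz1 hzK _ (hφL z hz1)⟩
  have hMS : M = both D x v := by
    have hsub : M ⊆ both D x v := fun s hs => hs.1
    have hne : M.Nonempty := Set.nonempty_of_ncard_ne_zero (by omega)
    have hSys : CfsgLib.ThreeTransp.TwoP.Sys 3 D := ⟨Nat.prime_three, by norm_num, hTS.1, hH.cls.conj,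
      fun d hd e he => (em (Commute d e)).imp_right fun h => ts_cube hTS hd he h⟩
    have hcl : ∀ a ∈ M, ∀ b ∈ M, a * b * a ∈ M := by
      rintro a ⟨ha, haK⟩ b ⟨hb, hbK⟩
      exact ⟨⟨by simpa [ts_inv hTS ha.1] using hH.cls.conj a b hb.1, (ha.2.1.mul_right hb.2.1).mul_right ha.2.1,
        (ha.2.2.mul_right hb.2.2).mul_right ha.2.2⟩, mul_mem (mul_mem haK hbK) haK⟩
    obtain ⟨i, hi⟩ := hSys.closed_card (S := M) (fun a ha => ha.1.1) hne
      (fun a ha b hb hab => hnc a ha.1 b hb.1 hab) hcl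
    refine Set.eq_of_subset_of_ncard_le hsub ?_ (Set.toFinite _)
    obtain ⟨k, hk⟩ := hpow
    rw [hn, hi]
    have h1 : 3 ^ k < 3 ^ (i + 1) := by rw [← hk, pow_succ, ← hi]; omega
    have h2 := (Nat.pow_lt_pow_iff_right (by norm_num)).1 h1
    rw [hk]
    exact Nat.pow_le_pow_right (by norm_num) (by omega)
  have hE : ∀ z ∈ nb D x, z ∈ K := by
    intro z hz
    have hs : φ z ∈ M := hMS.symm.subset (hφS z hz)
    refine hline _ (hS2 _ hs.1) hs.2 z ?_
    rw [(line_eq hH hx hz (left_mem_line hx hz) (hφL z hz) (hS2 _ hs.1).2.1.symm).2]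
    exact right_mem_line hz
  set U : Set G := {z | z ∈ D ∧ Commute x z} ∪ {v} with hU
  have hUD : U ⊆ D := fun z hz => hz.elim (fun h => h.1) fun h => h ▸ hv
  have hDsub : IsDSubgroup D (Subgroup.closure U) :=
    le_antisymm ((Subgroup.closure_le _).2 fun z hz => hz.2)
      (Subgroup.closure_mono fun z hz => ⟨hUD hz, Subgroup.subset_closure hz⟩)
  have hw : ∃ a ∈ D, ∃ b ∈ D, a ≠ b ∧ Commute a b := ⟨x, hx, y, hy.1, hy.2.1.symm, hy.2.2⟩
  rcases (hH.cls.maximal_commuting hH.prim hw hx).2 _ hDsub (Subgroup.closure_mono Set.subset_union_left) with e | e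
  · exfalso
    have hm : v ∈ Subgroup.closure {z | z ∈ D ∧ Commute x z} := e ▸ Subgroup.subset_closure (Or.inr rfl)
    have hle : Subgroup.closure {z | z ∈ D ∧ Commute x z} ≤ Subgroup.centralizer ({x} : Set G) :=
      (Subgroup.closure_le _).2 fun z hz => Subgroup.mem_centralizer_singleton_iff.2 hz.2.eq.symm
    exact hxv (Subgroup.mem_centralizer_singleton_iff.1 (hle hm)).symm
  · refine top_unique (e ▸ (Subgroup.closure_le _).2 ?_)
    rintro z (⟨hz, hxz⟩ | hz)
    · by_cases hzx : z = x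
      · exact hzx ▸ hxK
      · exact hE z ⟨hz, hzx, hxz⟩
    · rw [Set.mem_singleton_iff] at hz
      exact hz ▸ hvK

end CfsgLib.ThreeTransp.SolvLocal
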