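import Cfsg.Agent.Lib.ThreeTransp.SolvLocal.Lines
import Cfsg.Agent.Lib.ThreeTransp.LocalThree.Main
import Cfsg.Agent.Lib.FTCons.PElementInvolutionClass

/-!
The setting of a Fischer group in which the neighbours of a transposition generate a solvable group
with central odd core.
-/

set_option autoImplicit false
set_option linter.unusedSectionVars false
set_option linter.style.haveILetI false

namespace CfsgLib.ThreeTransp.SolvLocal

open Cfsg CfsgLib.Involutions CfsgLib.ThreeTransp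
open scoped commutatorElement

universe u

variable {G : Type u} [Group G] [Finite G] {D : Set G}

theorem perp2_conj (hconj : ∀ g : G, ∀ d ∈ D, g * d * g⁻¹ ∈ D) {g x y w : G}
    (hw : w ∈ perp2 D (g * x * g⁻¹) (g * y * g⁻¹)) : g⁻¹ * w * g ∈ perp2 D x y := by
  have e : w = g * (g⁻¹ * w * g) * g⁻¹ := by group
  have h1 := hw.2
  rw [e] at h1
  exact ⟨by simpa using hconj g⁻¹ w hw.1, (commute_conj_iff g).1 h1.1, (commute_conj_iff g).1 h1.2⟩

/-- The hypotheses of Fischer give the setting, unless the odd core is noncentral. -/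
theorem hyp_of_fischer (hsol : ∀ N : Subgroup G, N.Normal → Group.IsSolvable ↥N → N = ⊥)
    (hperf : ⁅commutator G, commutator G⁆ = commutator G) (hD : IsThreeTranspositionClass D) {x₀ : G}
    (hx₀ : x₀ ∈ D) (hs : Group.IsSolvable ↥(Subgroup.closure (nb D x₀)))
    (hodd : oddCore ↥(Subgroup.closure (nb D x₀)) ≤ Subgroup.center ↥(Subgroup.closure (nb D x₀))) :
    Hyp D := by
  classical
  have hT := hD.1
  have hconj := class_conj_mem hD
  have htr : ∀ a ∈ D, ∀ b ∈ D, ∃ g : G, g * a * g⁻¹ = b := fun a ha b hb => class_conjugate hD ha hb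
  -- a neighbour
  obtain ⟨y₁, hy₁⟩ : (nb D x₀).Nonempty := by
    by_contra hemp
    rw [Set.not_nonempty_iff_eq_empty] at hemp
    have hall : ∀ a ∈ D, ∀ b ∈ D, a ≠ b → ¬ Commute a b := by
      intro a ha b hb hne hc
      obtain ⟨g, rfl⟩ := htr x₀ hx₀ a ha
      have h1 : b ∈ nb D (g * x₀ * g⁻¹) := ⟨hb, hne.symm, hc⟩
      rw [LocalThree.nb_conj_eq hconj, hemp, Set.image_empty] at h1
      exact h1
    haveI : Fact (Nat.Prime 3) := ⟨Nat.prime_three⟩
    obtain ⟨d₀, hd₀, hD0⟩ := hD.2.1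
    have hle := CfsgLib.FTCons.commutator_le_pCore_of_involution_class (p := 3) (by norm_num) hT.1
      ⟨d₀, hd₀, hD0⟩ hD.2.2 (fun a ha b hb hne => ⟨1, by rw [pow_one]; exact ts_orderOf_three hT ha hb (hall a ha b hb hne)⟩)
    haveI : Group.IsNilpotent (pCore 3 G) := (Base.isPGroup_pCore 3 G).isNilpotent
    have h3 : pCore 3 G = ⊥ := hsol _ inferInstance inferInstance
    rw [h3, le_bot_iff] at hle
    have hab : ∀ a b : G, a * b = b * a := fun a b => by
      refine commutatorElement_eq_one_iff_mul_comm.1 ?_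
      rw [← Subgroup.mem_bot, ← hle]
      exact Subgroup.commutator_mem_commutator (Subgroup.mem_top a) (Subgroup.mem_top b)
    haveI : Group.IsSolvable ↥(⊤ : Subgroup G) :=
      Group.isSolvable_of_comm fun a b => Subtype.ext (hab a b)
    have htop := hsol ⊤ inferInstance inferInstance
    have h1 : x₀ ∈ (⊥ : Subgroup G) := htop ▸ Subgroup.mem_top x₀
    rw [Subgroup.mem_bot] at h1
    have h2 := hT.1 x₀ hx₀
    rw [h1, orderOf_one] at h2
    norm_num at h2
  have hC := tclass_of_class hD ⟨x₀, hx₀, y₁, hy₁.1, hy₁.2.1.symm⟩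
  have hp := hC.primitive_of_fischer hsol hperf
  have hw : ∃ a ∈ D, ∃ b ∈ D, a ≠ b ∧ Commute a b := ⟨x₀, hx₀, y₁, hy₁.1, hy₁.2.1.symm, hy₁.2.2⟩
  have hedge : ∀ x ∈ D, ∀ y ∈ nb D x, ∀ x' ∈ D, ∀ y' ∈ nb D x', SamePair x y x' y' := by
    intro x hx y hy x' hx' y' hy'
    obtain ⟨g, rfl⟩ := hC.trans x hx x' hx'
    have h1 : g * y * g⁻¹ ∈ nb D (g * x * g⁻¹) := by rw [LocalThree.nb_conj_eq hconj]; exact ⟨y, hy, rfl⟩
    obtain ⟨k, hk, hk'⟩ := hC.orb_nb hp hx' h1 hy'
    exact (show SamePair x y (g * x * g⁻¹) (g * y * g⁻¹) from ⟨g, rfl, rfl⟩).trans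
      ⟨k, by rw [(commute_closure_nb hk).eq, mul_inv_cancel_right], hk'⟩
  have hedges : ∀ x ∈ D, (nb D x).Nonempty := by
    intro x hx
    obtain ⟨g, rfl⟩ := hC.trans x₀ hx₀ x hx
    rw [LocalThree.nb_conj_eq hconj]
    exact ⟨_, y₁, hy₁, rfl⟩
  have hpair : ∀ x ∈ D, ∀ y ∈ nb D x, ∃ u ∈ nb D x, ¬ Commute y u := by
    intro x hx y hy
    by_contra hcon
    push Not at hcon
    have hall : ∀ a ∈ nb D x, ∀ b ∈ nb D x, Commute a b := by
      intro a ha b hb
      obtain ⟨g, hgx, rfl⟩ := hedge x hx y hy x hx a ha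
      have hbe : b = g * (g⁻¹ * b * g) * g⁻¹ := by group
      have hb' : g⁻¹ * b * g ∈ nb D x := by
        rw [← hgx, LocalThree.nb_conj_eq hconj] at hb
        obtain ⟨c, hc, rfl⟩ := hb
        simpa [mul_assoc] using hc
      rw [hbe]
      exact (commute_conj_iff g).2 (hcon _ hb')
    have hsingle : ∀ a ∈ nb D x, a = y := by
      intro a ha
      obtain ⟨k, hk, rfl⟩ := hC.orb_nb hp hx hy ha
      have hle : Subgroup.closure (nb D x) ≤ Subgroup.centralizer ({y} : Set G) :=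
        (Subgroup.closure_le _).2 fun b hb => Subgroup.mem_centralizer_singleton_iff.2 (hall b hb y hy).eq
      rw [Subgroup.mem_centralizer_singleton_iff.1 (hle hk), mul_inv_cancel_right]
    have hmate : ∀ v ∈ D, Commute y v → v = x ∨ v = y := by
      intro v hv hyv
      by_cases hvy : v = y
      · exact Or.inr hvy
      left
      obtain ⟨g, hgy, hgx⟩ := hedge x hx y hy y hy.1 x ⟨hx, hy.2.1.symm, hy.2.2.symm⟩
      have h1 : v ∈ nb D y := ⟨hv, hvy, hyv⟩
      rw [← hgy, LocalThree.nb_conj_eq hconj] at h1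
      obtain ⟨c, hc, rfl⟩ := h1
      rw [hsingle c hc]
      exact hgx
    apply hC.not_all_commute
    have hcon' := (connected_iff_creach ⟨x, hx⟩).1 (hC.connected_of_primitive hp hw) x hx
    have hxy : ∀ v ∈ D, v = x ∨ v = y := by
      intro v hv
      have h := hcon' v hv
      induction h with
      | refl => exact Or.inl rfl
      | @tail u w _ huw ih =>
        rcases ih huw.1 with rfl | rfl
        · by_cases hwu : w = u
          · exact Or.inl hwu
          · exact Or.inr (hsingle w ⟨hv, hwu, huw.2.2⟩)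
        · exact hmate w hv huw.2.2
    intro a ha b hb
    rcases hxy a ha with rfl | rfl <;> rcases hxy b hb with rfl | rfl
    · exact Commute.refl _
    · exact hy.2.2
    · exact hy.2.2.symm
    · exact Commute.refl _
  have hsolv : ∀ x ∈ D, Group.IsSolvable ↥(Subgroup.closure (nb D x)) := by
    intro x hx
    obtain ⟨g, rfl⟩ := hC.trans x₀ hx₀ x hx
    have e : Subgroup.closure (nb D (g * x₀ * g⁻¹)) =
        (Subgroup.closure (nb D x₀)).map (MulAut.conj g).toMonoidHom := by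
      rw [LocalThree.nb_conj_eq hconj, MonoidHom.map_closure]; rfl
    rw [e]
    exact Group.isSolvable_of_surjective (MonoidHom.subgroupMap_surjective _ _)
  -- a line with three members
  set E := nb D x₀ with hE
  set H := Subgroup.closure E with hHdef
  set DH : Set ↥H := inClosure E with hDH
  have hCH : TClass DH := by
    refine ⟨⟨fun d hd => by rw [← Subgroup.orderOf_coe]; exact hT.1 _ hd.1, fun d hd e he => ?_⟩,
      fun g d hd => ?_, Subgroup.closure_closure_coe_preimage, fun a ha b hb => ?_, ?_⟩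
    · rcases hT.2 _ hd.1 _ he.1 with h1 | h1
      · exact Or.inl (Subtype.ext (by simpa using h1))
      · exact Or.inr (Subtype.ext (by simpa using h1))
    · have hg : Commute (g : G) x₀ := commute_closure_nb g.2
      refine ⟨hconj g _ hd.1, fun e => hd.2.1 ?_, ?_⟩
      · exact mul_left_cancel (mul_right_cancel
          (e.trans (show x₀ = (g : G) * x₀ * (g : G)⁻¹ by rw [hg.eq, mul_inv_cancel_right])))
      · exact (hg.symm.mul_right hd.2.2).mul_right hg.symm.inv_right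
    · obtain ⟨k, hk, hk'⟩ := hC.orb_nb hp hx₀ ha hb
      exact ⟨⟨k, hk⟩, Subtype.ext hk'⟩
    · obtain ⟨u, hu, hn⟩ := hpair x₀ hx₀ y₁ hy₁
      exact ⟨⟨y₁, Subgroup.subset_closure hy₁⟩, hy₁, ⟨u, Subgroup.subset_closure hu⟩, hu,
        fun e => hn (by rw [Subtype.mk.injEq] at e; rw [e])⟩
  have h2 : ¬ pCore 2 ↥H ≤ Subgroup.center ↥H := by
    intro h2
    obtain ⟨u, hu, hn⟩ := hpair x₀ hx₀ y₁ hy₁
    have hF : fittingSubgroup ↥H ≤ Subgroup.center ↥H := by
      rw [Base.fittingSubgroup_eq_iSup_pCore]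
      refine iSup_le fun q => ?_
      haveI := Fact.mk q.2
      by_cases hq2 : (q : ℕ) = 2
      · rw [hq2]; exact h2
      · refine (Base.le_oddCore ?_).trans hodd
        obtain ⟨k, hk⟩ := IsPGroup.iff_card.1 (Base.isPGroup_pCore (q : ℕ) ↥H)
        rw [hk]
        exact (q.2.odd_of_ne_two hq2).pow
    have hcen : ∀ g : ↥H, g ∈ Subgroup.center ↥H := fun g => hF (Base.centralizer_fittingSubgroup_le (by
      rw [Subgroup.mem_centralizer_iff]
      intro f hf
      exact (Subgroup.mem_center_iff.1 (hF hf) g).symm))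
    refine hn ?_
    have h1 := Subgroup.mem_center_iff.1 (hcen ⟨u, Subgroup.subset_closure hu⟩) ⟨y₁, Subgroup.subset_closure hy₁⟩
    exact congrArg Subtype.val h1
  obtain ⟨e, he, hne, hc, hm⟩ := hCH.exists_two h2 (d := ⟨y₁, Subgroup.subset_closure hy₁⟩) hy₁
  have hline : (e : G) ∈ line D x₀ y₁ := by
    have hcG : Commute y₁ (e : G) := congrArg Subtype.val hc.eq
    refine ⟨⟨he.1, he.2.2.symm, hcG.symm⟩, fun w hw => ?_⟩
    by_contra hn
    have hwE : w ∈ E := ⟨hw.1, fun h => hn (h ▸ he.2.2.symm), hw.2.1.symm⟩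
    set W : ↥H := ⟨w, Subgroup.subset_closure hwE⟩
    haveI : Fact (Nat.Prime 2) := ⟨Nat.prime_two⟩
    have hncW : ¬ Commute W e := fun h => hn (congrArg Subtype.val h.eq).symm
    have hcW : Commute W (⟨y₁, Subgroup.subset_closure hy₁⟩ : ↥H) := Subtype.ext hw.2.2.eq
    haveI : (pCore 2 ↥H).Normal := inferInstance
    set Y : ↥H ⧸ pCore 2 ↥H := ((⟨y₁, Subgroup.subset_closure hy₁⟩ : ↥H) : ↥H ⧸ pCore 2 ↥H)
    have hYY : Y * Y = 1 := by
      show (((⟨y₁, _⟩ : ↥H) * ⟨y₁, _⟩ : ↥H) : ↥H ⧸ pCore 2 ↥H) = 1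
      rw [ts_mul_self hCH.ts hy₁]; rfl
    have hYE : Y * (e : ↥H ⧸ pCore 2 ↥H) = 1 := (QuotientGroup.eq_one_iff _).2 hm
    have hEY : (e : ↥H ⧸ pCore 2 ↥H) = Y := by
      calc (e : ↥H ⧸ pCore 2 ↥H) = Y * Y * e := by rw [hYY, one_mul]
        _ = Y := by rw [mul_assoc, hYE, mul_one]
    have e3 : ((W : ↥H ⧸ pCore 2 ↥H) * e) ^ 3 = 1 := by
      show (((W * e) ^ 3 : ↥H) : ↥H ⧸ pCore 2 ↥H) = 1
      rw [ts_cube hCH.ts hwE he hncW]; rfl
    have e2 : ((W : ↥H ⧸ pCore 2 ↥H) * e) ^ 2 = 1 := by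
      rw [hEY]
      show (((W * ⟨y₁, _⟩) ^ 2 : ↥H) : ↥H ⧸ pCore 2 ↥H) = 1
      rw [(invol_commute_iff (ts_invol hCH.ts hwE) (ts_invol hCH.ts hy₁)).1 hcW]; rfl
    have hWe : W * e ∈ pCore 2 ↥H := by
      rw [← QuotientGroup.eq_one_iff]
      show (W : ↥H ⧸ pCore 2 ↥H) * e = 1
      calc _ = ((W : ↥H ⧸ pCore 2 ↥H) * e) ^ 3 := by rw [pow_succ _ 2, e2, one_mul]
        _ = 1 := e3
    exact hncW (ts_commute_of_mem_two hCH.ts (Base.isPGroup_pCore 2 _) hwE he hWe)
  refine ⟨hC, hedge, fun x hx y hy h x' hx' y' hy' h' => ?_, fun x hx y hy => ?_, hpair,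
    fun x hx y hy h => hC.both_nonempty hp hw hx hy h, hsolv, hedges, hp,
    hsol _ inferInstance (Group.isSolvable_of_comm fun a b => Subtype.ext (Subgroup.mem_center_iff.1 b.2 a))⟩
  · obtain ⟨g, rfl⟩ := hC.trans x hx x' hx'
    exact (show SamePair x y (g * x * g⁻¹) (g * y * g⁻¹) from ⟨g, rfl, rfl⟩).trans
      (hC.rank_three hp hw hx' (hconj g y hy) hy' (fun h1 => h ((commute_conj_iff g).1 h1)) h')
  · obtain ⟨g, rfl, rfl⟩ := hedge x₀ hx₀ y₁ hy₁ x hx y hy
    refine ⟨g * e * g⁻¹, ⟨⟨hconj g _ he.1, (commute_conj_iff g).2 hline.1.2.1,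
      (commute_conj_iff g).2 hline.1.2.2⟩, fun w hw' => ?_⟩, fun h => he.2.1 ?_, fun h => hne (Subtype.ext ?_)⟩
    · have h1 := (commute_conj_iff g).2 (hline.2 _ (perp2_conj hconj hw'))
      rwa [show g * (g⁻¹ * w * g) * g⁻¹ = w by group] at h1
    · exact mul_left_cancel (mul_right_cancel h)
    · exact mul_left_cancel (mul_right_cancel h)

end CfsgLib.ThreeTransp.SolvLocal
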