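import Cfsg.Agent.Lib.ThreeTransp.SolvLocal.Bound
import Cfsg.Agent.Lib.ThreeTransp.LocalThree.Main
import Cfsg.Agent.Lib.ThreeTransp.SolvLocal.Setup
import Cfsg.Agent.Lib.ThreeTransp.TranspModels
import Cfsg.Agent.Lib.CharsMore.TwoRadical.Quot
import Cfsg.Agent.Lib.Chars.Burnside

/-!
The two unitary groups, with their transvections, are models of the presentations.
-/

set_option autoImplicit false
set_option linter.unusedSectionVars false
set_option linter.style.haveILetI false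

namespace CfsgLib.ThreeTransp.SolvLocal

open Cfsg Matrix CfsgLib.Involutions CfsgLib.ThreeTransp CfsgLib.Classical CfsgLib.Classical.Unitary
  CfsgLib.ThreeTransp.Models

universe u

variable {F : Type} [Field F] [Finite F] {σ : F →+* F} {n : ℕ}

/-- Thrice the number of transvections is the number of non-zero isotropic vectors. -/
theorem su_count (hF : Nat.card F = 4) (h : UFrob σ 2) :
    3 * {g : Cfsg.SU n F 2 | (g.1.1 - 1).rank = 1}.ncard + 1 = normCount F 2 n 0 := by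
  classical
  obtain ⟨-, hnorm, h2⟩ := four_facts hF h
  set D := {g : Cfsg.SU n F 2 | (g.1.1 - 1).rank = 1} with hD
  set S := {v : Fin n → F | uh σ v v = 0 ∧ v ≠ 0} with hS
  have hm : ∀ d : D, ∃ (v : Fin n → F) (hv : uh σ v v = 0), v ≠ 0 ∧ (d : Cfsg.SU n F 2) = utv h v 1 hv (skew_one h2) :=
    fun d => (mem_suCls hF h h2).1 d.2
  choose w hw hw0 hwe using hm
  have hiso : ∀ (a : F) (v : Fin n → F), uh σ v v = 0 → uh σ (a • v) (a • v) = 0 := fun a v hv => by
    rw [uh_smul_left, uh_smul_right, hv, mul_zero, mul_zero]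
  have hscal : ∀ (a : F) (v : Fin n → F) (hv : uh σ v v = 0), a ≠ 0 →
      utv h (a • v) 1 (hiso a v hv) (skew_one h2) = utv h v 1 hv (skew_one h2) := by
    intro a v hv ha
    refine su_ext fun x => ?_
    simp only [utv_mulVec, uh_smul_right, one_mul, smul_smul]
    congr 2
    calc σ a * uh σ x v * a = a * σ a * uh σ x v := by ring
      _ = uh σ x v := by rw [hnorm a ha, one_mul]
  let Φ : D × Fˣ → S := fun p => ⟨(p.2 : F) • w p.1, hiso _ _ (hw p.1), smul_ne_zero p.2.ne_zero (hw0 p.1)⟩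
  have hΦ : Function.Bijective Φ := by
    constructor
    · rintro ⟨d, a⟩ ⟨d', a'⟩ e
      have e' : (a : F) • w d = (a' : F) • w d' := congrArg Subtype.val e
      have hd : d = d' := by
        refine Subtype.ext ?_
        rw [hwe d, hwe d', ← hscal a (w d) (hw d) a.ne_zero, ← hscal a' (w d') (hw d') a'.ne_zero]
        exact su_ext fun x => by simp only [utv_mulVec, e']
      subst hd
      exact Prod.ext rfl (Units.ext (smul_left_injective F (hw0 d) e'))
    · rintro ⟨v, hv, hv0⟩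
      let d : D := ⟨utv h v 1 hv (skew_one h2), (mem_suCls hF h h2).2 ⟨v, hv, hv0, rfl⟩⟩
      obtain ⟨z, hz⟩ := exists_uh_eq_one h (hw0 d)
      have e := congrArg (fun g : Cfsg.SU n F 2 => g.1.1 *ᵥ z) (hwe d)
      simp only [d, utv_mulVec, hz, one_mul, one_smul, add_right_inj] at e
      have hc : uh σ z v ≠ 0 := fun h0 => hw0 d (by rw [← e, h0, zero_smul])
      refine ⟨⟨d, (Units.mk0 _ hc)⁻¹⟩, Subtype.ext ?_⟩
      show ((Units.mk0 (uh σ z v) hc)⁻¹ : Fˣ).val • w d = v
      rw [← e, Units.val_inv_eq_inv_val, Units.val_mk0, smul_smul, inv_mul_cancel₀ hc, one_smul]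
  have hcard : S.ncard = 3 * D.ncard := by
    rw [← Nat.card_coe_set_eq, ← Nat.card_congr (Equiv.ofBijective Φ hΦ), Nat.card_prod, Nat.card_units, hF,
      Nat.card_coe_set_eq, mul_comm]
  have hins : insert (0 : Fin n → F) S = {v | uh σ v v = 0} := by
    ext v
    by_cases hv : v = 0
    · simp [hv, uh_zero_left]
    · simp [hS, hv]
  have hnc : normCount F 2 n 0 = ({v : Fin n → F | uh σ v v = 0}).ncard := by
    rw [normCount, ← Nat.card_coe_set_eq]
    refine Nat.card_congr (Equiv.subtypeEquivRight fun v => ?_)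
    rw [← hermForm_self, h.hermForm_eq]
    rfl
  rw [hnc, ← hins, Set.ncard_insert_of_notMem (fun h0 => h0.2 rfl) (Set.toFinite _), hcard]

/-- Orders and class sizes. -/
theorem su_numbers (hF : Nat.card F = 4) (h : UFrob σ 2) :
    (Nat.card (Cfsg.SU 4 F 2) = 25920 ∧ {g : Cfsg.SU 4 F 2 | (g.1.1 - 1).rank = 1}.ncard = 45) ∧
      Nat.card (Cfsg.SU 5 F 2) = 13685760 ∧ {g : Cfsg.SU 5 F 2 | (g.1.1 - 1).rank = 1}.ncard = 165 := by
  have hF' : Nat.card F = 2 ^ 2 := by rw [hF]; rfl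
  have h4 := card_SU_mul hF' (show 1 ≤ 4 by norm_num)
  have h5 := card_SU_mul hF' (show 1 ≤ 5 by norm_num)
  have c4 := su_count (n := 4) hF h
  have c5 := su_count (n := 5) hF h
  have n4 := (normCount_closed hF' 4).1
  have n5 := (normCount_closed hF' 5).1
  rw [card_GU hF'] at h4 h5
  norm_num [Finset.prod_range_succ, Nat.even_iff] at h4 h5 n4 n5
  omega

theorem su_simple (hF : Nat.card F = 4) (hn : n = 4 ∨ n = 5) :
    IsSimpleGroup (Cfsg.SU n F 2) ∧ Subgroup.center (Cfsg.SU n F 2) = ⊥ ∧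
      Nonempty (Cfsg.PSU n F 2 ≃* Cfsg.SU n F 2) := by
  have hF' : Nat.card F = 2 ^ 2 := by rw [hF]; rfl
  have hco : Nat.gcd n 3 = 1 := by rcases hn with rfl | rfl <;> rfl
  have hc : Subgroup.center (Cfsg.SU n F 2) = ⊥ :=
    Subgroup.eq_bot_of_card_eq _ (by rw [card_center_SU hF' (by omega)]; exact hco)
  exact ⟨CfsgLib.CharsMore.TwoRadical.isSimple_SU hF' (by omega) hco, hc,
    ⟨(QuotientGroup.quotientMulEquivOfEq hc).trans QuotientGroup.quotientBot⟩⟩

/-- The setting holds in the two unitary groups. -/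
theorem su_hyp (hF : Nat.card F = 4) (h : UFrob σ 2) (hn : n = 4 ∨ n = 5) :
    Hyp {g : Cfsg.SU n F 2 | (g.1.1 - 1).rank = 1} := by
  classical
  obtain ⟨hS, hc, -⟩ := su_simple (n := n) hF hn
  haveI := hS
  obtain ⟨⟨k4, d4⟩, k5, d5⟩ := su_numbers hF h
  obtain ⟨a, b, hUD, hk, hd⟩ : ∃ a b : ℕ, Nat.card (Cfsg.SU n F 2) =
      2 ^ a * 3 ^ b * {g : Cfsg.SU n F 2 | (g.1.1 - 1).rank = 1}.ncard ∧
      Nat.card (Cfsg.SU n F 2) ≠ 120 ∧ 1 < {g : Cfsg.SU n F 2 | (g.1.1 - 1).rank = 1}.ncard := by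
    rcases hn with rfl | rfl
    · exact ⟨6, 2, by rw [k4, d4]; norm_num, by rw [k4]; norm_num, by rw [d4]; norm_num⟩
    · exact ⟨10, 4, by rw [k5, d5]; norm_num, by rw [k5]; norm_num, by rw [d5]; norm_num⟩
  have hD := su_class (n := n) hF h (by omega)
  set D := {g : Cfsg.SU n F 2 | (g.1.1 - 1).rank = 1}
  haveI : Nontrivial (Cfsg.SU n F 2) := hS.toNontrivial
  have hperf : commutator (Cfsg.SU n F 2) = ⊤ := by
    refine (IsSimpleGroup.eq_bot_or_eq_top_of_normal _ inferInstance).resolve_left fun e => ?_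
    obtain ⟨g, hg⟩ := exists_ne (1 : Cfsg.SU n F 2)
    refine hg ((Subgroup.mem_bot).1 (hc ▸ Subgroup.mem_center_iff.2 fun k => ?_))
    refine commutatorElement_eq_one_iff_mul_comm.1 ((Subgroup.mem_bot).1 (e ▸ ?_))
    exact Subgroup.commutator_mem_commutator (Subgroup.mem_top k) (Subgroup.mem_top g)
  have hsol : ∀ N : Subgroup (Cfsg.SU n F 2), N.Normal → Group.IsSolvable ↥N → N = ⊥ := by
    intro N hN hs
    refine (IsSimpleGroup.eq_bot_or_eq_top_of_normal N hN).resolve_right fun e => ?_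
    subst e
    haveI : Group.IsSolvable (Cfsg.SU n F 2) :=
      Group.isSolvable_of_surjective (f := (Subgroup.topEquiv (G := Cfsg.SU n F 2)).toMonoidHom)
        (Subgroup.topEquiv (G := Cfsg.SU n F 2)).surjective
    exact (Group.IsSolvable.commutator_lt_top_of_nontrivial (Cfsg.SU n F 2)).ne hperf
  obtain ⟨x₀, hx₀, -⟩ := hD.2.1
  have hconj := class_conj_mem hD
  have h2 : ∃ a ∈ D, ∃ b ∈ D, a ≠ b := by
    by_contra hall
    push Not at hall
    have : D.ncard ≤ 1 := (Set.ncard_le_one (Set.toFinite _)).2 fun a ha b hb => hall a ha b hb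
    omega
  have hidx := class_index (tclass_of_class hD h2) hx₀
  have hmul := Subgroup.card_mul_index (Subgroup.centralizer ({x₀} : Set (Cfsg.SU n F 2)))
  have hle : Subgroup.closure (nb D x₀) ≤ Subgroup.centralizer ({x₀} : Set (Cfsg.SU n F 2)) :=
    (Subgroup.closure_le _).2 fun y hy => Subgroup.mem_centralizer_singleton_iff.2 hy.2.2.eq.symm
  have hdvd := Subgroup.card_dvd_of_le hle
  have hab : Nat.card (Subgroup.centralizer ({x₀} : Set (Cfsg.SU n F 2))) = 2 ^ a * 3 ^ b := by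
    rw [hidx, hUD] at hmul
    exact Nat.eq_of_mul_eq_mul_right (by omega) hmul
  rw [hab] at hdvd
  obtain ⟨m₁, m₂, hm₁, hm₂, e⟩ := exists_dvd_and_dvd_of_dvd_mul hdvd
  obtain ⟨a', -, rfl⟩ := (Nat.dvd_prime_pow Nat.prime_two).1 hm₁
  obtain ⟨b', -, rfl⟩ := (Nat.dvd_prime_pow Nat.prime_three).1 hm₂
  have hs := CfsgLib.Chars.isSolvable_of_card_eq_pow_mul_pow Nat.prime_two Nat.prime_three e
  have hperf' : ⁅commutator (Cfsg.SU n F 2), commutator (Cfsg.SU n F 2)⁆ = commutator (Cfsg.SU n F 2) := by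
    conv_lhs => rw [hperf]
    rw [← commutator_def]
  refine hyp_of_fischer hsol hperf' hD hx₀ hs (Classical.byContradiction fun hodd => ?_)
  obtain ⟨e5⟩ := LocalThree.sym5_of_core hsol hperf' hD hx₀ hodd
  have h120 := Nat.card_congr e5.toEquiv
  rw [Nat.card_eq_fintype_card (α := Equiv.Perm (Fin 5)), Fintype.card_perm, Fintype.card_fin] at h120
  exact hk (h120.trans (by decide))

theorem model_three (hF : Nat.card F = 4) (h : UFrob σ 2) :
    ∃ f : Fin 8 → Cfsg.SU 4 F 2, (∀ a, f a * f a = 1) ∧ (∀ w ∈ known3, (w.map f).prod = 1) ∧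
      Subgroup.closure (Set.range f) = ⊤ ∧ f 7 = f 0 := by
  have hH := su_hyp (n := 4) hF h (Or.inl rfl)
  have hd := (su_numbers hF h).1.2
  rcases cases_of_hyp hH with ⟨-, e⟩ | ⟨⟨f, hf, hk, ht, h7⟩, -⟩ | ⟨-, e⟩
  · omega
  · exact ⟨f, fun a => ts_mul_self hH.cls.ts (hf a), hk, ht, h7⟩
  · omega

theorem model_nine (hF : Nat.card F = 4) (h : UFrob σ 2) :
    ∃ f : Fin 8 → Cfsg.SU 5 F 2, (∀ a, f a * f a = 1) ∧ (∀ w ∈ known9 3 4 2, (w.map f).prod = 1) ∧
      Subgroup.closure (Set.range f) = ⊤ := by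
  have hH := su_hyp (n := 5) hF h (Or.inr rfl)
  have hd := (su_numbers hF h).2.2
  rcases cases_of_hyp hH with ⟨-, e⟩ | ⟨-, e⟩ | ⟨⟨f, hf, hk, ht⟩, -⟩
  · omega
  · omega
  · exact ⟨f, fun a => ts_mul_self hH.cls.ts (hf a), hk, ht⟩

/-- Two generating families satisfying the same relators, the second in a simple group of the largest
possible order: the groups are isomorphic. -/
theorem iso_of_pair {G : Type u} [Group G] [Nontrivial G] {U : Type} [Group U] [Finite U] [IsSimpleGroup U]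
    {f : Fin 8 → G} {f' : Fin 8 → U} (hf : Subgroup.closure (Set.range f) = ⊤)
    (hf' : Subgroup.closure (Set.range f') = ⊤)
    (hb : CfsgLib.PresCert.CardLE (Subgroup.closure (Set.range fun a => (f a, f' a))) (Nat.card U)) :
    Nonempty (G ≃* U) := by
  set P := Subgroup.closure (Set.range fun a => (f a, f' a))
  haveI : Finite P := Nat.finite_of_card_ne_zero hb.1
  let p₁ : P →* G := (MonoidHom.fst G U).comp P.subtype
  let p₂ : P →* U := (MonoidHom.snd G U).comp P.subtype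
  have h₁ : Function.Surjective p₁ := by
    rw [← MonoidHom.range_eq_top, eq_top_iff, ← hf, Subgroup.closure_le]
    rintro _ ⟨a, rfl⟩
    exact ⟨⟨(f a, f' a), Subgroup.subset_closure ⟨a, rfl⟩⟩, rfl⟩
  have h₂ : Function.Surjective p₂ := by
    rw [← MonoidHom.range_eq_top, eq_top_iff, ← hf', Subgroup.closure_le]
    rintro _ ⟨a, rfl⟩
    exact ⟨⟨(f a, f' a), Subgroup.subset_closure ⟨a, rfl⟩⟩, rfl⟩
  have hbij : Function.Bijective p₂ :=
    (Nat.bijective_iff_surjective_and_card p₂).2 ⟨h₂, le_antisymm hb.2 (Nat.card_le_card_of_surjective p₂ h₂)⟩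
  let φ : U →* G := p₁.comp (MulEquiv.ofBijective p₂ hbij).symm.toMonoidHom
  have hφ : Function.Surjective φ := h₁.comp (MulEquiv.ofBijective p₂ hbij).symm.surjective
  rcases IsSimpleGroup.eq_bot_or_eq_top_of_normal φ.ker inferInstance with e | e
  · exact ⟨(MulEquiv.ofBijective φ ⟨(MonoidHom.ker_eq_bot_iff φ).1 e, hφ⟩).symm⟩
  · exfalso
    obtain ⟨g, hg⟩ := exists_ne (1 : G)
    obtain ⟨k, rfl⟩ := hφ g
    exact hg (MonoidHom.mem_ker.1 (e ▸ Subgroup.mem_top k))

end CfsgLib.ThreeTransp.SolvLocal
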